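import Groth.Agent.DiffTame.Basic
import Mathlib.RingTheory.DedekindDomain.Factorization
import Mathlib.RingTheory.Trace.Quotient
import Mathlib.RingTheory.UniqueFactorizationDomain.Multiplicity

/-!
# The different at a prime: tame criterion, lengths of quotients, codifferent
-/

set_option autoImplicit false
set_option linter.style.haveILetI false
set_option linter.unusedSectionVars false

open IsLocalRing UniqueFactorizationMonoid Module

namespace Groth.Agent.DiffRH

section Count

variable {B : Type*} [CommRing B] [IsDedekindDomain B]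

open Classical in
/-- The exponent of a prime in an ideal. -/
noncomputable def ord (P I : Ideal B) : ℕ := (factors I).count P

theorem pow_dvd_iff {P I : Ideal B} (hP : Irreducible P) (hI : I ≠ ⊥) {n : ℕ} : P ^ n ∣ I ↔ n ≤ ord P I := by
  classical
  rw [pow_dvd_iff_le_emultiplicity, emultiplicity_eq_count_normalizedFactors hP hI, normalize_eq,
    Nat.cast_le, ord, factors_eq_normalizedFactors]

theorem irreducible_of_isMaximal (P : Ideal B) [P.IsMaximal] (hP : P ≠ ⊥) : Irreducible P :=
  ((Ideal.prime_iff_isPrime hP).2 inferInstance).irreducible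

theorem eq_ord_of (P I : Ideal B) [P.IsMaximal] (hP : P ≠ ⊥) (hI : I ≠ ⊥) :
    ∃ Q : Ideal B, P ⊔ Q = ⊤ ∧ I = P ^ ord P I * Q := by
  classical
  obtain ⟨Q, h1, h2⟩ := Ideal.eq_prime_pow_mul_coprime hI P
  refine ⟨Q, h1, ?_⟩
  rwa [ord, factors_eq_normalizedFactors]

end Count

section Dim

variable (k : Type*) [Field k] {B : Type*} [CommRing B] [IsDedekindDomain B] [Algebra k B]

/-- The dimension of the quotient by a power of a maximal ideal. -/
theorem finrank_quot_pow (P : Ideal B) [P.IsMaximal] (hP : P ≠ ⊥) [Module.Finite k (B ⧸ P)] (n : ℕ) :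
    Module.Finite k (B ⧸ P ^ n) ∧ finrank k (B ⧸ P ^ n) = n * finrank k (B ⧸ P) := by
  induction n with
  | zero =>
    haveI : Subsingleton (B ⧸ P ^ 0) := Ideal.Quotient.subsingleton_iff.mpr (by simp)
    exact ⟨inferInstance, by rw [zero_mul]; exact finrank_zero_of_subsingleton⟩
  | succ n ih =>
    obtain ⟨a, ha, hna⟩ := SetLike.exists_of_lt
      (Ideal.pow_succ_lt_pow hP n)
    have hle : P ≤ Submodule.comap (LinearMap.mulLeft B a) (P ^ (n + 1)) := fun x hx => by
      show a * x ∈ P ^ (n + 1)
      rw [pow_succ]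
      exact Ideal.mul_mem_mul ha hx
    let i := (Submodule.mapQ P (P ^ (n + 1)) (LinearMap.mulLeft B a) hle).restrictScalars k
    let q := (Ideal.Quotient.factorₐ k (Ideal.pow_le_pow_right n.le_succ : P ^ (n + 1) ≤ P ^ n)).toLinearMap
    have hq : Function.Surjective q := Ideal.Quotient.factor_surjective (Ideal.pow_le_pow_right n.le_succ)
    have hi : Function.Injective i := by
      rw [injective_iff_map_eq_zero]
      intro v hv
      obtain ⟨v, rfl⟩ := Ideal.Quotient.mk_surjective v
      change Ideal.Quotient.mk (P ^ (n + 1)) (a * v) = 0 at hv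
      rw [Ideal.Quotient.eq_zero_iff_mem] at hv ⊢
      by_contra hvP
      exact hna ((Ideal.IsPrime.mem_pow_mul _ hv).resolve_right hvP)
    have hex : LinearMap.range i = LinearMap.ker q := by
      refine le_antisymm ?_ fun w hw => ?_
      · rintro _ ⟨v, rfl⟩
        obtain ⟨v, rfl⟩ := Ideal.Quotient.mk_surjective v
        show Ideal.Quotient.mk (P ^ n) (a * v) = 0
        rw [Ideal.Quotient.eq_zero_iff_mem]
        exact Ideal.mul_mem_right _ _ ha
      · obtain ⟨w, rfl⟩ := Ideal.Quotient.mk_surjective w
        change Ideal.Quotient.mk (P ^ n) w = 0 at hw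
        rw [Ideal.Quotient.eq_zero_iff_mem] at hw
        obtain ⟨c, hc, z, hz, hcz⟩ := Submodule.mem_sup.1
          (show w ∈ Ideal.span {a} ⊔ P ^ (n + 1) by
            rw [Ideal.eq_prime_pow_of_succ_lt_of_le hP
              (lt_of_le_of_ne le_sup_right fun h =>
                hna (h ▸ Ideal.mem_sup_left (Ideal.mem_span_singleton_self a)))
              (sup_le ((Ideal.span_singleton_le_iff_mem _).2 ha) (Ideal.pow_le_pow_right n.le_succ))]
            exact hw)
        obtain ⟨d, rfl⟩ := Ideal.mem_span_singleton.1 hc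
        refine ⟨Ideal.Quotient.mk P d, ?_⟩
        show Ideal.Quotient.mk (P ^ (n + 1)) (a * d) = Ideal.Quotient.mk _ w
        rw [Ideal.Quotient.eq, ← hcz, sub_add_cancel_left]
        exact neg_mem hz
    haveI := ih.1
    haveI : Module.Finite k (LinearMap.ker q) :=
      Module.Finite.equiv ((LinearEquiv.ofInjective i hi).trans (LinearEquiv.ofEq _ _ hex))
    haveI : Module.Finite k ((B ⧸ P ^ (n + 1)) ⧸ LinearMap.ker q) :=
      Module.Finite.equiv (q.quotKerEquivOfSurjective hq).symm
    haveI : Module.Finite k (B ⧸ P ^ (n + 1)) := Module.Finite.of_submodule_quotient (LinearMap.ker q)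
    refine ⟨inferInstance, ?_⟩
    rw [← LinearMap.finrank_range_add_finrank_ker q, LinearMap.range_eq_top.2 hq, finrank_top, ih.2, ← hex,
      LinearMap.finrank_range_of_inj hi]
    ring

open Classical in
/-- The dimension of the quotient by an ideal. -/
theorem finrank_quot {I : Ideal B} (hI : I ≠ ⊥)
    (hfin : ∀ P : Ideal B, P.IsMaximal → I ≤ P → Module.Finite k (B ⧸ P)) :
    Module.Finite k (B ⧸ I) ∧
      finrank k (B ⧸ I) = ∑ P ∈ (factors I).toFinset, ord P I * finrank k (B ⧸ P) := by
  let e : (B ⧸ I) ≃ₗ[k] ∀ P : (factors I).toFinset, B ⧸ (P : Ideal B) ^ (factors I).count ↑P :=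
    { IsDedekindDomain.quotientEquivPiFactors hI with
      map_smul' := fun c z => by
        obtain ⟨z, rfl⟩ := Ideal.Quotient.mk_surjective z
        show IsDedekindDomain.quotientEquivPiFactors hI (c • Ideal.Quotient.mk I z) = _
        rw [Algebra.smul_def, map_mul]
        refine funext fun P => ?_
        show _ = c • IsDedekindDomain.quotientEquivPiFactors hI (Ideal.Quotient.mk I z) P
        rw [Algebra.smul_def]
        rfl }
  have hP : ∀ P : (factors I).toFinset, Module.Finite k (B ⧸ (P : Ideal B) ^ (factors I).count ↑P) ∧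
      finrank k (B ⧸ (P : Ideal B) ^ (factors I).count ↑P) = ord (P : Ideal B) I * finrank k (B ⧸ (P : Ideal B)) := by
    intro P
    have hmem := Multiset.mem_toFinset.1 P.2
    have hp : Prime (P : Ideal B) := prime_of_factor _ hmem
    haveI : (P : Ideal B).IsMaximal := (Ideal.isPrime_of_prime hp).isMaximal hp.ne_zero
    haveI := hfin P inferInstance (Ideal.dvd_iff_le.1 (dvd_of_mem_factors hmem))
    exact finrank_quot_pow k (P : Ideal B) hp.ne_zero _
  haveI := fun P => (hP P).1
  refine ⟨Module.Finite.equiv e.symm, ?_⟩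
  rw [e.finrank_eq, finrank_pi_fintype, ← Finset.sum_coe_sort (factors I).toFinset]
  exact Finset.sum_congr rfl fun P _ => (hP P).2

end Dim

end Groth.Agent.DiffRH
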