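import Groth.Agent.DiffRH.Alg
import Mathlib.RingTheory.Localization.NormTrace
import Mathlib.RingTheory.Localization.Module

/-!
# The cokernel of the trace pairing is the quotient by the different
-/

set_option autoImplicit false
set_option linter.style.haveILetI false
set_option linter.unusedSectionVars false

open Module nonZeroDivisors

namespace Groth.Agent.DiffRH

universe u

attribute [local instance] FractionRing.liftAlgebra FractionRing.isScalarTower_liftAlgebra

variable (A B : Type u) [CommRing A] [IsDomain A] [IsDedekindDomain A] [CommRing B] [IsDomain B]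
  [IsDedekindDomain B] [Algebra A B] [Module.Finite A B] [Module.IsTorsionFree A B] [Module.Free A B]
  [Algebra.IsSeparable (FractionRing A) (FractionRing B)]

theorem exists_generator_codifferent :
    ∃ φ₀ : B →ₗ[A] A,
      (∀ φ : B →ₗ[A] A, ∃ b a : B, φ = φ₀ ∘ₗ LinearMap.mulLeft A b + Algebra.traceForm A B a) ∧
      ∀ b : B, φ₀ ∘ₗ LinearMap.mulLeft A b ∈ LinearMap.range (Algebra.traceForm A B) ↔ b ∈ differentIdeal A B := by
  classical
  let K := FractionRing A
  let L := FractionRing B
  haveI : IsLocalization (Algebra.algebraMapSubmonoid B A⁰) L := IsIntegralClosure.isLocalization _ K _ _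
  haveI : FiniteDimensional K L := .of_isLocalization A B A⁰
  let ι := Module.Free.ChooseBasisIndex A B
  let bA := Module.Free.chooseBasis A B
  let bK : Basis ι K L := bA.localizationLocalization K A⁰ L
  have hbK : ∀ i, bK i = algebraMap B L (bA i) := fun i => bA.localizationLocalization_apply K A⁰ L i
  let tf := Algebra.traceForm K L
  have hnd := traceForm_nondegenerate K L
  have htr : ∀ b : B, Algebra.trace K L (algebraMap B L b) = algebraMap A K (Algebra.trace A B b) :=
    fun b => Algebra.trace_localization A A⁰ b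
  let C : Submodule B L := Submodule.traceDual A K 1
  have hC : ∀ c : L, c ∈ C ↔ ∀ b : B, Algebra.trace K L (c * algebraMap B L b) ∈ (1 : Submodule A K) := fun c => by
    rw [Submodule.mem_traceDual]
    constructor
    · intro h b
      obtain ⟨a, ha⟩ := h _ (Submodule.mem_one.2 ⟨b, rfl⟩)
      exact Submodule.mem_one.2 ⟨a, ha⟩
    · rintro h y hy
      obtain ⟨b, rfl⟩ := Submodule.mem_one.1 hy
      obtain ⟨a, ha⟩ := Submodule.mem_one.1 (h b)
      exact ⟨a, ha⟩
  -- every functional is a trace against the codifferent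
  have hrep : ∀ φ : B →ₗ[A] A, ∃ c ∈ C, ∀ b : B, algebraMap A K (φ b) = Algebra.trace K L (c * algebraMap B L b) := by
    intro φ
    let Φ : L →ₗ[K] K := bK.constr K fun i => algebraMap A K (φ (bA i))
    let c : L := ((Algebra.traceForm K L).toDual hnd).symm Φ
    have hcΦ : ∀ x : L, Algebra.trace K L (c * x) = Φ x := fun x => by
      rw [← Algebra.traceForm_apply]
      exact LinearMap.BilinForm.apply_toDual_symm_apply Φ x
    have hval : ∀ b : B, Φ (algebraMap B L b) = algebraMap A K (φ b) := by
      intro b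
      let F : B →ₗ[A] K := (Φ.restrictScalars A).comp (Algebra.linearMap B L |>.restrictScalars A)
      have hF : F = (Algebra.linearMap A K).comp φ := bA.ext fun i => by
        show Φ (algebraMap B L (bA i)) = algebraMap A K (φ (bA i))
        rw [← hbK, Basis.constr_basis]
      exact LinearMap.congr_fun hF b
    refine ⟨c, (hC c).2 fun b => ?_, fun b => ?_⟩
    · rw [hcΦ, hval]; exact Submodule.mem_one.2 ⟨_, rfl⟩
    · rw [hcΦ, hval]
  have hfun : ∀ c ∈ C, ∃ φ : B →ₗ[A] A, ∀ b : B, algebraMap A K (φ b) = Algebra.trace K L (c * algebraMap B L b) := by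
    intro c hc
    choose g hg using fun b => Submodule.mem_one.1 ((hC c).1 hc b)
    have hinj := IsFractionRing.injective A K
    refine ⟨{ toFun := g, map_add' := fun x y => hinj ?_, map_smul' := fun r x => hinj ?_ }, hg⟩
    · rw [map_add (algebraMap A K), hg, hg, hg, map_add (algebraMap B L), mul_add, map_add]
    · rw [RingHom.id_apply, smul_eq_mul, map_mul (algebraMap A K), hg, hg, Algebra.smul_def r x,
        map_mul (algebraMap B L), ← IsScalarTower.algebraMap_apply A B L,
        IsScalarTower.algebraMap_apply A K L, mul_left_comm,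
        ← Algebra.smul_def, LinearMap.map_smul, smul_eq_mul]
  have huniq : ∀ c c' : L, (∀ b : B, Algebra.trace K L (c * algebraMap B L b) =
      Algebra.trace K L (c' * algebraMap B L b)) → c = c' := by
    intro c c' h
    refine sub_eq_zero.1 (hnd.1 _ fun y => ?_)
    have hz : (Algebra.traceForm K L (c - c')) = 0 := bK.ext fun i => by
      rw [hbK, Algebra.traceForm_apply, sub_mul, map_sub, h, sub_self, LinearMap.zero_apply]
    exact LinearMap.congr_fun hz y
  have hD : ∀ b : B, b ∈ differentIdeal A B ↔ ∀ c ∈ C, algebraMap B L b * c ∈ (1 : Submodule B L) := fun b => by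
    have h1 := coeSubmodule_differentIdeal A K (L := L) (B := B)
    rw [← Submodule.mem_div_iff_forall_mul_mem, ← h1]
    exact ⟨fun h => ⟨b, h, rfl⟩, fun ⟨b', hb', e⟩ => IsFractionRing.injective B L e ▸ hb'⟩
  -- a common denominator
  obtain ⟨d, hd, hd0⟩ := Submodule.exists_mem_ne_zero_of_ne_bot (differentIdeal_ne_bot (A := A) (B := B))
  let J : Ideal B := (C.map (LinearMap.mulLeft B (algebraMap B L d))).comap (Algebra.linearMap B L)
  have hC1 : (1 : Submodule B L) ≤ C := fun y hy => by
    obtain ⟨b, rfl⟩ := Submodule.mem_one.1 hy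
    refine (hC _).2 fun b' => Submodule.mem_one.2 ⟨Algebra.trace A B (b * b'), ?_⟩
    rw [← htr, map_mul]
  have hdJ : Ideal.span {d} ≤ J := (Ideal.span_singleton_le_iff_mem _).2 ⟨1,
    hC1 (Submodule.mem_one.2 ⟨1, map_one _⟩), by simp⟩
  obtain ⟨a, ha⟩ := IsDedekindDomain.exists_sup_span_eq hdJ
    (by simpa [Ideal.zero_eq_bot, Ideal.span_singleton_eq_bot] using hd0)
  obtain ⟨c₀, hc₀, hc₀a⟩ := (show a ∈ J from ha.le (Ideal.mem_sup_right (Ideal.mem_span_singleton_self a)))
  change algebraMap B L d * c₀ = algebraMap B L a at hc₀a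
  have hdL : algebraMap B L d ≠ 0 := (map_ne_zero_iff _ (IsFractionRing.injective B L)).2 hd0
  have hgen : ∀ c ∈ C, ∃ b a' : B, c = algebraMap B L b * c₀ + algebraMap B L a' := fun c hc => by
    obtain ⟨j, hj⟩ := Submodule.mem_one.1 ((hD d).1 hd c hc)
    have hjJ : j ∈ J := ⟨c, hc, hj.symm⟩
    rw [← ha] at hjJ
    obtain ⟨u, hu, v, hv, huv⟩ := Submodule.mem_sup.1 hjJ
    obtain ⟨u, rfl⟩ := Ideal.mem_span_singleton'.1 hu
    obtain ⟨v, rfl⟩ := Ideal.mem_span_singleton'.1 hv
    refine ⟨v, u, mul_left_cancel₀ hdL ?_⟩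
    rw [← hj, ← huv, map_add, map_mul, map_mul, ← hc₀a]
    ring
  obtain ⟨φ₀, hφ₀⟩ := hfun c₀ hc₀
  have hcomp : ∀ (b x : B), algebraMap A K ((φ₀ ∘ₗ LinearMap.mulLeft A b) x) =
      Algebra.trace K L (algebraMap B L b * c₀ * algebraMap B L x) := fun b x => by
    rw [LinearMap.comp_apply, LinearMap.mulLeft_apply, hφ₀, map_mul (algebraMap B L)]
    rw [mul_comm (algebraMap B L b) c₀, mul_assoc]
  have htf : ∀ (b x : B), algebraMap A K (Algebra.traceForm A B b x) =
      Algebra.trace K L (algebraMap B L b * algebraMap B L x) := fun b x => by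
    rw [Algebra.traceForm_apply, ← htr, map_mul]
  refine ⟨φ₀, fun φ => ?_, fun b => ⟨fun ⟨a', ha'⟩ => ?_, fun hb => ?_⟩⟩
  · obtain ⟨c, hc, hcφ⟩ := hrep φ
    obtain ⟨b, a', rfl⟩ := hgen c hc
    refine ⟨b, a', LinearMap.ext fun x => IsFractionRing.injective A K ?_⟩
    rw [hcφ, LinearMap.add_apply, map_add, hcomp, htf, add_mul, map_add]
  · have he : algebraMap B L b * c₀ = algebraMap B L a' := huniq _ _ fun x => by
      rw [← hcomp, ← htf, ha']
    refine (hD b).2 fun c hc => ?_
    obtain ⟨v, w, rfl⟩ := hgen c hc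
    refine Submodule.mem_one.2 ⟨v * a' + b * w, ?_⟩
    rw [map_add, map_mul, map_mul, ← he]
    ring
  · obtain ⟨a', ha'⟩ := Submodule.mem_one.1 ((hD b).1 hb c₀ hc₀)
    refine ⟨a', LinearMap.ext fun x => IsFractionRing.injective A K ?_⟩
    rw [htf, hcomp, ha']

end Groth.Agent.DiffRH
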