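import Groth.Agent.CurveTraceDeg.Main
import Groth.Agent.RefX.QCoh
import Groth.Agent.QCoh.Extension

/-!
# Sections of the cokernel of the trace pairing on a small affine open
-/

noncomputable section

set_option autoImplicit false
set_option linter.style.haveILetI false
set_option linter.unusedSectionVars false
set_option backward.isDefEq.respectTransparency false
set_option backward.isDefEq.respectTransparency.types false

universe u

open CategoryTheory CategoryTheory.Limits AlgebraicGeometry TopologicalSpace Opposite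

namespace Groth.Agent.DiffRH

open RefHull Groth.Agent.CurveTraceDeg

variable {X Y : Scheme.{u}}

/-- A germ at the only support point of an open comes from exactly one section. -/
theorem germ_bijective_of_support [IsNoetherian Y] {M : Y.Modules} (hM : Coh.IsCoh M)
    (h0 : ∀ x ∈ CohB1.support M, IsClosed ({x} : Set Y)) {V : Y.Opens} {y : Y} (hy : y ∈ V)
    (hsupp : ∀ z ∈ V, z ∈ CohB1.support M → z = y) :
    Function.Bijective (M.presheaf.germ V y hy) := by
  refine ⟨(injective_iff_map_eq_zero (M.presheaf.germ V y hy).hom).2 fun s hs => ?_, fun m => ?_⟩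
  · refine TopCat.Presheaf.section_ext (⟨M.presheaf, M.isSheaf⟩ : TopCat.Sheaf Ab Y.toTopCat) V s 0
      fun z hz => ?_
    refine Eq.trans ?_ (map_zero (M.presheaf.germ V z hz).hom).symm
    by_cases hzy : z = y
    · subst hzy; exact hs
    · exact CurveCohLib.germ_eq_zero_of_notMem_support s hz fun h => hzy (hsupp z hz h)
  · by_cases hyS : y ∈ CohB1.support M
    · obtain ⟨s, hs, -⟩ := CurveCohLib.exists_section_single hM h0 hyS m
      exact ⟨M.presheaf.map (homOfLE le_top).op s, (M.presheaf.germ_res_apply _ y hy s).trans hs⟩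
    · exact ⟨0, (not_not.1 hyS : Subsingleton (M.presheaf.stalk y)).elim _ _⟩

/-- Sections of the image of a map are what the cokernel kills. -/
theorem exists_preimage_of_cokernel_app_eq_zero {A B : Y.Modules} (φ : A ⟶ B) [Mono φ] {V : Y.Opens}
    (s : Γ(B, V)) (hs : (cokernel.π φ).app V s = 0) : ∃ a, φ.app V a = s := by
  have hS : (ShortComplex.mk φ (cokernel.π φ) (cokernel.condition φ)).ShortExact :=
    { exact := ShortComplex.exact_cokernel φ, mono_f := inferInstance, epi_g := inferInstance }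
  exact QCoh.exists_app_f_eq hS V s hs

variable {f : X ⟶ Y} [IsFinite f] (hA : FlatMod.IsFinLocFree (push f))

theorem app_toDual {V : Y.Opens} (a b : Γ(push f, V)) :
    RefX.app le_rfl ((toDual hA).app V a) b = pair hA V a b := by
  refine ZClosLib.section_ext (Coh.structureModule Y) _ _ fun z hz => ?_
  rw [RefX.germ_app]
  show pairLin hA z ((push f).presheaf.germ V z hz a) _ = _
  exact pst_germ hA z hz a b

variable [IsLocallyNoetherian Y]

/-- A functional on sections of the direct image over an affine open as a section of the dual. -/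
def ofDual {V : Y.Opens} (hV : IsAffineOpen V) :
    (letI := H23.CoverPush.alg f V; Γ(X, f ⁻¹ᵁ V) →ₗ[Γ(Y, V)] Γ(Y, V)) → Γ(dual (push f), V) := fun φ =>
  letI := H23.CoverPush.alg f V
  RefX.ofLin (F := push f) (G := Coh.structureModule Y)
    (CurveDeg.isCoh_of_isFinLocFree hA).1 hV le_rfl
    (letI := RefX.resModule (Coh.structureModule Y) (le_refl V)
     { toFun := fun a => φ (toFn f a)
       map_add' := fun a b => φ.map_add (toFn f a) (toFn f b)
       map_smul' := fun r a => by
         refine (congrArg φ (show toFn f (r • a) = r • toFn f a from ?_)).trans ((φ.map_smul r _).trans ?_)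
         · exact (smul_eq f r a).trans (Algebra.smul_def r (toFn f a)).symm
         · show r * φ (toFn f a) = Y.presheaf.map (homOfLE (le_refl V)).op r * φ (toFn f a)
           rw [show (homOfLE (le_refl V)).op = 𝟙 (op V) from rfl, CategoryTheory.Functor.map_id]
           rfl })

theorem app_ofDual {V : Y.Opens} (hV : IsAffineOpen V)
    (φ : letI := H23.CoverPush.alg f V; Γ(X, f ⁻¹ᵁ V) →ₗ[Γ(Y, V)] Γ(Y, V)) (a : Γ(push f, V)) :
    letI := H23.CoverPush.alg f V
    RefX.app le_rfl (ofDual hA hV φ) a = φ (toFn f a) := by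
  letI := H23.CoverPush.alg f V
  refine ZClosLib.section_ext (Coh.structureModule Y) _ _ fun z hz => ?_
  rw [RefX.germ_app]
  exact RefX.ofLin_germ _ hV le_rfl _ hz a

variable [IsNoetherian Y] [Mono (toDual hA)]

/-- The stalk of the cokernel of the trace pairing at the only support point of an affine open. -/
theorem exists_presentation {V : Y.Opens} (hV : IsAffineOpen V) {y : Y} (hy : y ∈ V)
    (h0 : ∀ x ∈ CohB1.support (cokernel (toDual hA)), IsClosed ({x} : Set Y))
    (hsupp : ∀ z ∈ V, z ∈ CohB1.support (cokernel (toDual hA)) → z = y)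
    (hfree : letI := H23.CoverPush.alg f V; Module.Free Γ(Y, V) Γ(X, f ⁻¹ᵁ V))
    (hfin : letI := H23.CoverPush.alg f V; Module.Finite Γ(Y, V) Γ(X, f ⁻¹ᵁ V)) :
    letI := H23.CoverPush.alg f V
    ∃ ψ : (Γ(X, f ⁻¹ᵁ V) →ₗ[Γ(Y, V)] Γ(Y, V)) →+ (cokernel (toDual hA)).presheaf.stalk y,
      Function.Surjective ψ ∧
        (∀ φ, ψ φ = 0 ↔ φ ∈ LinearMap.range (Algebra.traceForm Γ(Y, V) Γ(X, f ⁻¹ᵁ V))) ∧
        ∀ (r : Γ(Y, V)) φ, ψ (r • φ) = Y.presheaf.germ V y hy r • ψ φ := by
  letI := H23.CoverPush.alg f V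
  have hAc := CurveDeg.isCoh_of_isFinLocFree hA
  have hDc : Coh.IsCoh (dual (push f)) := RefX.isCoh_dual hAc
  have hCc : Coh.IsCoh (cokernel (toDual hA)) := QCoh.isCoh_cokernel hAc.1 hDc (toDual hA)
  let π := cokernel.π (toDual hA)
  have hb := germ_bijective_of_support hCc h0 hy hsupp
  have hext : ∀ g g' : Γ(dual (push f), V), (∀ m, RefX.app le_rfl g m = RefX.app le_rfl g' m) → g = g' :=
    RefX.toLin_injective hAc.1 hV
  have hval : ∀ {g : Γ(dual (push f), V)} {φ : Γ(X, f ⁻¹ᵁ V) →ₗ[Γ(Y, V)] Γ(Y, V)},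
      (∀ a, RefX.app le_rfl g a = φ (toFn f a)) → ofDual hA hV φ = g := fun {g φ} h =>
    hext _ _ fun m => (app_ofDual hA hV φ m).trans (h m).symm
  have hadd : ∀ φ φ' : Γ(X, f ⁻¹ᵁ V) →ₗ[Γ(Y, V)] Γ(Y, V),
      ofDual hA hV (φ + φ') = ofDual hA hV φ + ofDual hA hV φ' := fun φ φ' => by
    refine hval fun a => ZClosLib.section_ext (Coh.structureModule Y) _ _ fun z hz => ?_
    rw [RefX.germ_app, LinearMap.add_apply]
    refine Eq.trans ?_ (map_add ((Coh.structureModule Y).presheaf.germ V z hz).hom _ _).symm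
    rw [← app_ofDual hA hV φ a, ← app_ofDual hA hV φ' a]
    refine Eq.trans ?_ (congrArg₂ (· + ·) (RefX.germ_app _ _ _ hz).symm (RefX.germ_app _ _ _ hz).symm)
    rfl
  let ψ : (Γ(X, f ⁻¹ᵁ V) →ₗ[Γ(Y, V)] Γ(Y, V)) →+ (cokernel (toDual hA)).presheaf.stalk y :=
    AddMonoidHom.mk' (fun φ => (cokernel (toDual hA)).presheaf.germ V y hy (π.app V (ofDual hA hV φ))) fun φ φ' => by
      rw [hadd, map_add, map_add]
  refine ⟨ψ, fun m => ?_, fun φ => ⟨fun h => ?_, fun h => ?_⟩, fun r φ => ?_⟩
  · obtain ⟨s, rfl⟩ := hb.2 m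
    obtain ⟨g, rfl⟩ := QCoh.app_surjective_of_epi hDc.1 hCc.1 π hV s
    let φ : Γ(X, f ⁻¹ᵁ V) →ₗ[Γ(Y, V)] Γ(Y, V) :=
      { toFun := fun a => RefX.app le_rfl g (ofFn f a)
        map_add' := fun a b => RefX.app_add le_rfl g (ofFn f a) (ofFn f b)
        map_smul' := fun r a => by
          refine (congrArg (RefX.app le_rfl g) (show ofFn f (r • a) = r • ofFn f a from ?_)).trans
            (RefX.app_smul le_rfl g r (ofFn f a))
          exact (congrArg (ofFn f) (Algebra.smul_def r a)).trans (smul_eq f r (ofFn f a)).symm }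
    exact ⟨φ, congrArg (fun t => (cokernel (toDual hA)).presheaf.germ V y hy (π.app V t))
      (hval (φ := φ) fun a => rfl)⟩
  · have h1 : π.app V (ofDual hA hV φ) = 0 := hb.1 (h.trans (map_zero _).symm)
    obtain ⟨a, ha⟩ := exists_preimage_of_cokernel_app_eq_zero (toDual hA) _ h1
    refine ⟨toFn f a, LinearMap.ext fun b => ?_⟩
    have h2 := app_ofDual hA hV φ (ofFn f b)
    rw [← ha, app_toDual] at h2
    refine Eq.trans ?_ h2
    exact (trace_app_of_free hA hV hfree hfin _).symm
  · obtain ⟨a, rfl⟩ := h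
    have h1 : ofDual hA hV (Algebra.traceForm Γ(Y, V) Γ(X, f ⁻¹ᵁ V) a) = (toDual hA).app V (ofFn f a) :=
      hval fun b => (app_toDual hA _ b).trans (trace_app_of_free hA hV hfree hfin _)
    show (cokernel (toDual hA)).presheaf.germ V y hy (π.app V _) = 0
    rw [h1, show π.app V ((toDual hA).app V (ofFn f a)) = 0 from
      congr($(congrArg (fun t : push f ⟶ cokernel (toDual hA) => t.app V) (cokernel.condition (toDual hA))) (ofFn f a)),
      map_zero]
  · have h1 : ofDual hA hV (r • φ) = r • ofDual hA hV φ := hval fun a => by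
      refine ZClosLib.section_ext (Coh.structureModule Y) _ _ fun z hz => ?_
      rw [RefX.germ_app, RefX.smul_val, LinearMap.smul_apply, LinearMap.smul_apply]
      refine Eq.trans (congrArg _ ((RefX.germ_app le_rfl _ a hz).symm.trans
        (congrArg _ (app_ofDual hA hV φ a)))) ?_
      exact (QCoh.germ_smul' (Coh.structureModule Y) hz r (φ (toFn f a))).symm
    show (cokernel (toDual hA)).presheaf.germ V y hy (π.app V (ofDual hA hV (r • φ))) = _
    rw [h1, Scheme.Modules.Hom.app_smul, QCoh.germ_smul']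
    rfl

end Groth.Agent.DiffRH
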