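import Groth.Agent.DiffRH.Alg

/-!
# The exponent of the different is `e - 1` exactly in the tame case
-/

set_option autoImplicit false
set_option linter.style.haveILetI false
set_option linter.unusedSectionVars false

open IsLocalRing UniqueFactorizationMonoid Module nonZeroDivisors

namespace Groth.Agent.DiffRH

universe u

attribute [local instance] Ideal.Quotient.field FractionRing.liftAlgebra
  FractionRing.isScalarTower_liftAlgebra

variable (A B : Type u) [CommRing A] [IsDomain A] [IsDedekindDomain A] [CommRing B] [IsDomain B]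
  [IsDedekindDomain B] [Algebra A B] [Module.Finite A B] [Module.IsTorsionFree A B]
  [Algebra.IsSeparable (FractionRing A) (FractionRing B)]
  {p : Ideal A} [p.IsMaximal] (P : Ideal B) [P.IsMaximal] [P.LiesOver p]

omit [Module.Finite A B] [Algebra.IsSeparable (FractionRing A) (FractionRing B)] [p.IsMaximal] [P.IsMaximal] in
theorem le_map : p.map (algebraMap A B) ≤ P := Ideal.map_le_iff_le_comap.mpr Ideal.LiesOver.over.le

omit [Module.Finite A B] [Algebra.IsSeparable (FractionRing A) (FractionRing B)] [p.IsMaximal] in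
theorem ne_bot (hp : p ≠ ⊥) : P ≠ ⊥ :=
  ne_bot_of_le_ne_bot (Ideal.map_ne_bot_of_ne_bot hp) (le_map A B P)

omit [Module.Finite A B] [Algebra.IsSeparable (FractionRing A) (FractionRing B)] [p.IsMaximal] in
theorem one_le_ord_map (hp : p ≠ ⊥) : 1 ≤ ord P (p.map (algebraMap A B)) := by
  rw [← pow_dvd_iff (irreducible_of_isMaximal P (ne_bot A B P hp)) (Ideal.map_ne_bot_of_ne_bot hp), pow_one,
    Ideal.dvd_iff_le]
  exact le_map A B P

theorem ord_sub_one_le (hp : p ≠ ⊥) :
    ord P (p.map (algebraMap A B)) - 1 ≤ ord P (differentIdeal A B) := by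
  have hirr := irreducible_of_isMaximal P (ne_bot A B P hp)
  rw [← pow_dvd_iff hirr differentIdeal_ne_bot]
  exact pow_sub_one_dvd_differentIdeal A P _ hp
    ((pow_dvd_iff hirr (Ideal.map_ne_bot_of_ne_bot hp)).2 le_rfl)

theorem ord_eq_iff (hp : p ≠ ⊥) :
    ord P (differentIdeal A B) = ord P (p.map (algebraMap A B)) - 1 ↔
      (Algebra.IsSeparable (A ⧸ p) (B ⧸ P) ∧ ((ord P (p.map (algebraMap A B)) : ℕ) : A ⧸ p) ≠ 0) := by
  classical
  have hP := ne_bot A B P hp
  have hirr := irreducible_of_isMaximal P hP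
  have hp' := Ideal.map_ne_bot_of_ne_bot (S := B) hp
  have hD : differentIdeal A B ≠ ⊥ := differentIdeal_ne_bot
  set e := ord P (p.map (algebraMap A B)) with he
  have he1 : 1 ≤ e := one_le_ord_map A B P hp
  obtain ⟨Q, hPQ, hpQ⟩ := eq_ord_of P _ hP hp'
  rw [← he] at hpQ
  have hco : IsCoprime (P ^ e) Q := (Ideal.isCoprime_iff_sup_eq.mpr hPQ).pow_left
  have hlow := ord_sub_one_le A B P hp
  rw [← he] at hlow
  have key : ord P (differentIdeal A B) = e - 1 ↔ ∃ x ∈ Q, Algebra.intTrace A B x ∉ p := by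
    have h1 : ord P (differentIdeal A B) = e - 1 ↔ ¬ P ^ e ∣ differentIdeal A B := by
      rw [pow_dvd_iff hirr hD]
      omega
    rw [h1]
    refine ⟨fun h => ?_, fun ⟨x, hxQ, hx⟩ => not_dvd_differentIdeal_of_intTrace_not_mem A _ Q hpQ.symm x hxQ hx⟩
    by_contra hcon
    push_neg at hcon
    refine h ?_
    let K := FractionRing A
    let L := FractionRing B
    haveI : IsLocalization (Algebra.algebraMapSubmonoid B A⁰) L :=
      IsIntegralClosure.isLocalization _ K _ _
    haveI : FiniteDimensional K L := .of_isLocalization A B A⁰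
    have hPe : P ^ e ≠ ⊥ := pow_ne_zero _ hP
    have hQ0 : Q ≠ ⊥ := fun h0 => hp' (by rw [hpQ, h0, Ideal.mul_bot])
    have hinv : (((P ^ e : Ideal B) : FractionalIdeal B⁰ L))⁻¹ = Q / p.map (algebraMap A B) := by
      apply inv_involutive.injective
      simp only [hpQ, FractionalIdeal.coeIdeal_mul, inv_div, mul_div_assoc]
      rw [div_self (by simpa), mul_one, inv_inv]
    rw [Ideal.dvd_iff_le, differentialIdeal_le_iff (K := K) (L := L) hPe, hinv, Submodule.map_le_iff_le_comap]
    intro x hx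
    rw [Submodule.restrictScalars_mem, FractionalIdeal.mem_coe,
      FractionalIdeal.mem_div_iff_of_ne_zero (by simpa using hp')] at hx
    rw [Submodule.mem_comap, LinearMap.coe_restrictScalars, ← FractionalIdeal.coe_one,
      ← div_self (G₀ := FractionalIdeal A⁰ K) (a := p) (by simpa using hp),
      FractionalIdeal.mem_coe, FractionalIdeal.mem_div_iff_of_ne_zero (by simpa using hp)]
    simp only [FractionalIdeal.mem_coeIdeal, forall_exists_index, and_imp,
      forall_apply_eq_imp_iff₂] at hx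
    intro y hy'
    obtain ⟨y, hy, rfl : algebraMap A K _ = _⟩ := (FractionalIdeal.mem_coeIdeal _).mp hy'
    obtain ⟨z, hz, hz'⟩ := hx _ (Ideal.mem_map_of_mem _ hy)
    have : Algebra.trace K L (algebraMap B L z) ∈ (p : FractionalIdeal A⁰ K) := by
      rw [← Algebra.algebraMap_intTrace (A := A)]
      exact ⟨Algebra.intTrace A B z, hcon z hz, rfl⟩
    rwa [mul_comm, ← smul_eq_mul, ← map_smul, Algebra.smul_def, mul_comm,
      ← IsScalarTower.algebraMap_apply, IsScalarTower.algebraMap_apply A B L, ← hz']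
  rw [key]
  have hle : P ^ e ≤ P := Ideal.pow_le_self (by omega)
  letI : Algebra (A ⧸ p) (B ⧸ P ^ e) := Ideal.Quotient.algebraQuotientOfLEComap
    (Ideal.map_le_iff_le_comap.mp (hpQ.le.trans Ideal.mul_le_left) : _)
  letI : Algebra (A ⧸ p) (B ⧸ Q) := Ideal.Quotient.algebraQuotientOfLEComap
    (Ideal.map_le_iff_le_comap.mp (hpQ.le.trans Ideal.mul_le_right) : _)
  haveI : IsScalarTower A (A ⧸ p) (B ⧸ P ^ e) := .of_algebraMap_eq' rfl
  haveI : IsScalarTower A (A ⧸ p) (B ⧸ Q) := .of_algebraMap_eq' rfl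
  haveI : Module.Finite (A ⧸ p) (B ⧸ P ^ e) := .of_restrictScalars_finite A _ _
  haveI : Module.Finite (A ⧸ p) (B ⧸ Q) := .of_restrictScalars_finite A _ _
  let φ : (B ⧸ p.map (algebraMap A B)) ≃ₐ[A ⧸ p] ((B ⧸ P ^ e) × B ⧸ Q) :=
    { __ := (Ideal.quotEquivOfEq hpQ).trans (Ideal.quotientMulEquivQuotientProd _ Q hco),
      commutes' := Quotient.ind fun _ ↦ rfl }
  obtain ⟨π, hπ, hπ2⟩ := SetLike.exists_of_lt (Ideal.pow_succ_lt_pow hP 1)
  rw [pow_one] at hπ
  set t : B ⧸ P ^ e := Ideal.Quotient.mk _ π with ht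
  have hgen : ∀ j, j < e → π ^ j ∉ P ^ (j + 1) := fun j _ => by
    induction j with
    | zero => simpa using (Ideal.IsMaximal.ne_top ‹P.IsMaximal› ∘ (Ideal.eq_top_iff_one P).2)
    | succ j ih =>
      intro h
      have hdvd : P ^ (j + 1 + 1) ∣ Ideal.span {π} ^ (j + 1) := by
        rw [Ideal.dvd_iff_le, Ideal.span_singleton_pow, Ideal.span_singleton_le_iff_mem]
        exact h
      obtain ⟨R, hR1, hR2⟩ := eq_ord_of P (Ideal.span {π}) hP (by
        rw [ne_eq, Ideal.span_singleton_eq_bot]; rintro rfl; exact hπ2 (zero_mem _))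
      have hord : ord P (Ideal.span {π}) = 1 := by
        refine le_antisymm ?_ ?_
        · by_contra hlt
          refine hπ2 ((Ideal.span_singleton_le_iff_mem _).1 (Ideal.dvd_iff_le.1 ?_))
          rw [pow_dvd_iff hirr (by rw [ne_eq, Ideal.span_singleton_eq_bot]; rintro rfl; exact hπ2 (zero_mem _))]
          omega
        · rw [← pow_dvd_iff hirr (by rw [ne_eq, Ideal.span_singleton_eq_bot]; rintro rfl; exact hπ2 (zero_mem _)),
            pow_one, Ideal.dvd_iff_le, Ideal.span_singleton_le_iff_mem]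
          exact hπ
      rw [hord, pow_one] at hR2
      rw [hR2, mul_pow, pow_succ P (j + 1)] at hdvd
      have h3 := (mul_dvd_mul_iff_left (pow_ne_zero (j + 1) hP)).1 hdvd
      have h4 : P ∣ R := ((Ideal.prime_iff_isPrime hP).2 inferInstance).dvd_of_dvd_pow h3
      rw [Ideal.dvd_iff_le] at h4
      rw [sup_eq_left.2 h4] at hR1
      exact Ideal.IsMaximal.ne_top ‹P.IsMaximal› hR1
  have hPt : ∀ b : B, Ideal.Quotient.mk (P ^ e) b ∈ Ideal.span {t} ↔ b ∈ P := fun b => by
    constructor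
    · intro hb
      obtain ⟨c, hc⟩ := Ideal.mem_span_singleton'.1 hb
      obtain ⟨c, rfl⟩ := Ideal.Quotient.mk_surjective c
      rw [ht, ← map_mul, Ideal.Quotient.eq] at hc
      have := P.sub_mem (Ideal.mul_mem_left P c hπ) (hle hc)
      rwa [sub_sub_cancel] at this
    · intro hb
      have hs : P = Ideal.span {π} ⊔ P ^ e := by
        refine le_antisymm ?_ (sup_le ((Ideal.span_singleton_le_iff_mem _).2 hπ) hle)
        by_contra hn
        obtain ⟨M, hM⟩ : P ∣ Ideal.span {π} ⊔ P ^ e :=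
          Ideal.dvd_iff_le.2 (sup_le ((Ideal.span_singleton_le_iff_mem _).2 hπ) hle)
        by_cases hMP : P ∣ M
        · refine hπ2 ?_
          have : Ideal.span {π} ⊔ P ^ e ≤ P ^ 2 := by
            rw [hM, pow_two]; exact Ideal.mul_mono_right (Ideal.dvd_iff_le.1 hMP)
          exact this (Ideal.mem_sup_left (Ideal.mem_span_singleton_self π))
        · have hMc : IsCoprime P M := by
            rw [Ideal.isCoprime_iff_sup_eq]
            refine Ideal.IsMaximal.out.2 _ (lt_of_le_of_ne le_sup_left fun h => hMP (Ideal.dvd_iff_le.2 ?_))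
            rw [h]; exact le_sup_right
          have hdvd : M ∣ P ^ e := (dvd_mul_left M P).trans
            (Ideal.dvd_iff_le.2 (by rw [← hM]; exact le_sup_right))
          have htop := (hMc.symm.pow_right (n := e)).isUnit_of_dvd hdvd
          rw [Ideal.isUnit_iff] at htop
          rw [htop, Ideal.mul_top] at hM
          exact hn hM.ge
      rw [hs] at hb
      obtain ⟨c, hc, z, hz, rfl⟩ := Submodule.mem_sup.1 hb
      obtain ⟨d, rfl⟩ := Ideal.mem_span_singleton'.1 hc
      rw [map_add, Ideal.Quotient.eq_zero_iff_mem.2 hz, add_zero, map_mul]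
      exact Ideal.mul_mem_left _ _ (Ideal.mem_span_singleton_self t)
  have htr : ∀ x : B ⧸ P ^ e, Algebra.trace (A ⧸ p) (B ⧸ P ^ e) x =
      e • Algebra.trace (A ⧸ p) ((B ⧸ P ^ e) ⧸ Ideal.span {t}) (Ideal.Quotient.mk _ x) := fun x =>
    DiffTame.trace_eq_nsmul t e
      (by rw [ht, ← map_pow]; exact Ideal.Quotient.eq_zero_iff_mem.2 (Ideal.pow_mem_pow hπ e))
      (fun i hi h0 => by
        rw [ht, ← map_pow, Ideal.Quotient.eq_zero_iff_mem] at h0
        exact hgen i hi (Ideal.pow_le_pow_right hi h0))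
      (fun v hv => by
        obtain ⟨b, rfl⟩ := Ideal.Quotient.mk_surjective v
        have hbP : b ∉ P := fun h => hv ((hPt b).2 h)
        refine (Ideal.Quotient.isUnit_mk_pow_iff_notMem P (by omega)).2 hbP)
      (fun hu => by
        have h1 := Ideal.span_singleton_eq_top.mpr hu
        exact Ideal.IsMaximal.ne_top ‹P.IsMaximal›
          ((Ideal.eq_top_iff_one _).mpr ((hPt 1).mp (by rw [h1]; exact Submodule.mem_top))))
      x
  let f : B →+* (B ⧸ P ^ e) ⧸ Ideal.span {t} := (Ideal.Quotient.mk _).comp (Ideal.Quotient.mk _)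
  have hf : Function.Surjective f := Ideal.Quotient.mk_surjective.comp Ideal.Quotient.mk_surjective
  have hkf : RingHom.ker f = P := Ideal.ext fun b => by
    rw [RingHom.mem_ker, RingHom.comp_apply, Ideal.Quotient.eq_zero_iff_mem, hPt]
  let εB : (B ⧸ P) ≃+* (B ⧸ P ^ e) ⧸ Ideal.span {t} :=
    (Ideal.quotEquivOfEq hkf.symm).trans (RingHom.quotientKerEquivOfSurjective hf)
  have hsq : ∀ c, εB (algebraMap (A ⧸ p) (B ⧸ P) c) =
      algebraMap (A ⧸ p) ((B ⧸ P ^ e) ⧸ Ideal.span {t}) c := fun c => by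
    obtain ⟨a, rfl⟩ := Ideal.Quotient.mk_surjective c
    rfl
  let εA : (B ⧸ P) ≃ₐ[A ⧸ p] (B ⧸ P ^ e) ⧸ Ideal.span {t} := AlgEquiv.ofRingEquiv (f := εB) hsq
  have hfield : IsField ((B ⧸ P ^ e) ⧸ Ideal.span {t}) :=
    εB.symm.toMulEquiv.isField (Field.toIsField (B ⧸ P))
  haveI : (Ideal.span {t}).IsMaximal := Ideal.Quotient.maximal_of_isField _ hfield
  have hred : ∀ x : B, x ∈ Q → (Algebra.intTrace A B x ∈ p ↔
      e • Algebra.trace (A ⧸ p) (B ⧸ P) (Ideal.Quotient.mk P x) = 0) := fun x hxQ => by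
    have h2 : φ (Ideal.Quotient.mk _ x) = (Ideal.Quotient.mk _ x, 0) := by
      refine Prod.ext rfl ?_
      exact Ideal.Quotient.eq_zero_iff_mem.2 hxQ
    rw [← Ideal.Quotient.eq_zero_iff_mem, ← Algebra.trace_quotient_eq_of_isDedekindDomain,
      ← Algebra.trace_eq_of_algEquiv φ, h2, Algebra.trace_prod_apply, map_zero, add_zero, htr,
      ← Algebra.trace_eq_of_algEquiv εA (Ideal.Quotient.mk P x)]
    rfl
  have hlift : ∀ c : B ⧸ P, ∃ x ∈ Q, Ideal.Quotient.mk P x = c := fun c => by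
    obtain ⟨b, rfl⟩ := Ideal.Quotient.mk_surjective c
    obtain ⟨u, hu, v, hv, huv⟩ := Submodule.mem_sup.1 (hPQ ▸ Submodule.mem_top : b ∈ P ⊔ Q)
    exact ⟨v, hv, by rw [Ideal.Quotient.eq, ← huv, sub_add_cancel_right]; exact neg_mem hu⟩
  constructor
  · rintro ⟨x, hxQ, hx⟩
    rw [hred x hxQ] at hx
    refine ⟨by_contra fun hs => hx ?_, fun h0 => hx ?_⟩
    · rw [Algebra.trace_eq_zero_of_not_isSeparable hs, LinearMap.zero_apply, smul_zero]
    · rw [nsmul_eq_mul, h0, zero_mul]
  · rintro ⟨hs, hn0⟩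
    haveI := hs
    obtain ⟨c, hc⟩ : ∃ c, Algebra.trace (A ⧸ p) (B ⧸ P) c ≠ 0 := by
      by_contra! h
      exact Algebra.trace_ne_zero (A ⧸ p) (B ⧸ P) (LinearMap.ext h)
    obtain ⟨x, hxQ, rfl⟩ := hlift c
    exact ⟨x, hxQ, by rw [hred x hxQ, nsmul_eq_mul]; exact mul_ne_zero hn0 hc⟩

end Groth.Agent.DiffRH
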