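import Groth.Agent.DiffRH.Cok
import Groth.Agent.DiffRH.Tame
import Groth.Agent.DiffRH.Codiff
import Mathlib.RingTheory.DedekindDomain.Dvr
import Mathlib.RingTheory.Jacobson.Ring

/-!
# The local Riemann–Hurwitz computation over an affine open
-/

noncomputable section

set_option autoImplicit false
set_option linter.style.haveILetI false
set_option linter.unusedSectionVars false
set_option backward.isDefEq.respectTransparency false
set_option backward.isDefEq.respectTransparency.types false
set_option maxHeartbeats 1000000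

universe u

open CategoryTheory CategoryTheory.Limits AlgebraicGeometry TopologicalSpace Opposite IsLocalRing

attribute [local instance] Curv2.resAlgebra

namespace Groth.Agent.DiffRH

open Groth.Agent.CurveTraceDeg

/-- The ramification index at a point. -/
def ramAt {X Y : Scheme.{u}} (f : X ⟶ Y) (x : X) : ℕ :=
  letI := (f.stalkMap x).hom.toAlgebra
  Ideal.ramificationIdx (maximalIdeal (X.presheaf.stalk x)) (Y.presheaf.stalk (f x))

/-- Tameness at a point. -/
def IsTameAt {X Y : Scheme.{u}} (f : X ⟶ Y) (x : X) : Prop :=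
  letI := (f.residueFieldMap x).hom.toAlgebra
  Algebra.IsSeparable (Y.residueField (f x)) (X.residueField x) ∧ ((ramAt f x : ℕ) : Y.residueField (f x)) ≠ 0

/-- The sections over an affine open of a normal curve. -/
theorem isDedekindDomain_sections {Y : Scheme.{u}} [IsIntegral Y] [IsNoetherian Y]
    (hdvr : ∀ y : Y, IsClosed ({y} : Set Y) → IsDiscreteValuationRing (Y.presheaf.stalk y))
    (hgen : ∀ y : Y, ¬ IsClosed ({y} : Set Y) → y = genericPoint Y)
    {V : Y.Opens} (hV : IsAffineOpen V) [Nonempty V] : IsDedekindDomain Γ(Y, V) := by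
  haveI : IsNoetherianRing Γ(Y, V) := QCoh.noetherian_sections ⟨V, hV⟩
  haveI : IsDedekindDomainDvr Γ(Y, V) := ⟨fun P hP hPp => by
    obtain ⟨y, hy, hyP⟩ := QCoh.exists_point hV ⟨P, hPp⟩
    obtain rfl : (hV.primeIdealOf ⟨y, hy⟩).asIdeal = P := congrArg PrimeSpectrum.asIdeal hyP
    letI := Y.presheaf.algebra_section_stalk ⟨y, hy⟩
    haveI := hV.isLocalization_stalk ⟨y, hy⟩
    by_cases hc : IsClosed ({y} : Set Y)
    · haveI := hdvr y hc
      exact IsDiscreteValuationRing.RingEquivClass.isDiscreteValuationRing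
        (IsLocalization.algEquiv (hV.primeIdealOf ⟨y, hy⟩).asIdeal.primeCompl (Y.presheaf.stalk y)
          (Localization.AtPrime (hV.primeIdealOf ⟨y, hy⟩).asIdeal)).toRingEquiv
    · exfalso
      obtain rfl := hgen y hc
      obtain ⟨a, ha, ha0⟩ := Submodule.exists_mem_ne_zero_of_ne_bot hP
      have hu := (IsLocalization.AtPrime.isUnit_to_map_iff (Y.presheaf.stalk (genericPoint Y)) _ a).not.2
        (fun h => h ha)
      exact hu (isUnit_iff_ne_zero.2 (fun h0 => ha0 (by
        haveI := functionField_isFractionRing_of_isAffineOpen Y V hV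
        exact IsFractionRing.injective Γ(Y, V) Y.functionField (h0.trans (map_zero _).symm))) :
          IsUnit ((algebraMap Γ(Y, V) Y.functionField) a))⟩
  exact IsDedekindDomainDvr.isDedekindDomain Γ(Y, V)

variable (k : Type u) [Field k] {X Y : Scheme.{u}} [X.Over (Spec (CommRingCat.of k))]
  [Y.Over (Spec (CommRingCat.of k))] [IsIntegral X] [IsIntegral Y]
  [IsProper (X ↘ Spec (CommRingCat.of k))] [IsProper (Y ↘ Spec (CommRingCat.of k))]

include k in
/-- The local Riemann–Hurwitz formula. -/
theorem local_formula (hdX : topologicalKrullDim X = 1) (hdY : topologicalKrullDim Y = 1)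
    (hnX : Pi1.IsNormalScheme X) (hnY : Pi1.IsNormalScheme Y)
    (f : X ⟶ Y) [IsFinite f] (hf : f ≫ (Y ↘ Spec (CommRingCat.of k)) = X ↘ Spec (CommRingCat.of k))
    (e : f (genericPoint X) = genericPoint Y)
    (hsep : letI := ((Y.presheaf.stalkSpecializes (specializes_of_eq e) ≫ f.stalkMap (genericPoint X)).hom).toAlgebra
      Algebra.IsSeparable Y.functionField X.functionField)
    (hA : FlatMod.IsFinLocFree (push f)) [Mono (toDual hA)]
    (h0 : ∀ x ∈ CohB1.support (cokernel (toDual hA)), IsClosed ({x} : Set Y))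
    {V : Y.Opens} (hV : IsAffineOpen V) {y : Y} (hy : y ∈ V) (hyc : IsClosed ({y} : Set Y))
    (hsupp : ∀ z ∈ V, z ∈ CohB1.support (cokernel (toDual hA)) → z = y)
    (hfree : letI := H23.CoverPush.alg f V; Module.Free Γ(Y, V) Γ(X, f ⁻¹ᵁ V))
    (hfin : letI := H23.CoverPush.alg f V; Module.Finite Γ(Y, V) Γ(X, f ⁻¹ᵁ V)) :
    ∃ (F : Finset X) (N : X → ℕ), (∀ x, x ∈ F ↔ f x = y) ∧
      (∀ x ∈ F, IsClosed ({x} : Set X) ∧ ramAt f x - 1 ≤ N x ∧ (N x = ramAt f x - 1 ↔ IsTameAt f x) ∧
        0 < Module.finrank k (X.residueField x)) ∧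
      (letI := CurveCohLib.stalkModuleK k (cokernel (toDual hA)) y
       Module.finrank k ((cokernel (toDual hA)).presheaf.stalk y)) = ∑ x ∈ F, N x * Module.finrank k (X.residueField x) := by
  classical
  haveI := CurveCohLib.isNoetherian_of_proper (k := k) (X := Y)
  haveI := CurveCohLib.isNoetherian_of_proper (k := k) (X := X)
  have hdvrY : ∀ y : Y, IsClosed ({y} : Set Y) → IsDiscreteValuationRing (Y.presheaf.stalk y) :=
    fun z hz => CurveEmbed.isDVR_of_normal k hdY hz (hnY z).2
  have hdvrX : ∀ x : X, IsClosed ({x} : Set X) → IsDiscreteValuationRing (X.presheaf.stalk x) :=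
    fun z hz => CurveEmbed.isDVR_of_normal k hdX hz (hnX z).2
  have hU : IsAffineOpen (f ⁻¹ᵁ V) := hV.preimage f
  have hη : genericPoint Y ∈ V := ((genericPoint_spec Y).specializes (Set.mem_univ y)).mem_open V.2 hy
  have hmem : f (genericPoint X) ∈ V := by rw [e]; exact hη
  haveI : Nonempty V := ⟨⟨_, hη⟩⟩
  haveI : Nonempty (f ⁻¹ᵁ V : X.Opens) := ⟨⟨genericPoint X, hmem⟩⟩
  letI := H23.CoverPush.alg f V
  let R := Γ(Y, V)
  let B := Γ(X, f ⁻¹ᵁ V)
  haveI : Module.Free R B := hfree
  haveI : Module.Finite R B := hfin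
  haveI : IsDedekindDomain R := isDedekindDomain_sections hdvrY
    (fun z hz => CurveCohLib.eq_genericPoint_of_not_isClosed hdY hz) hV
  haveI : IsDedekindDomain B := isDedekindDomain_sections hdvrX
    (fun z hz => CurveCohLib.eq_genericPoint_of_not_isClosed hdX hz) hU
  haveI : IsFractionRing R Y.functionField := functionField_isFractionRing_of_isAffineOpen Y V hV
  haveI : IsFractionRing B X.functionField := functionField_isFractionRing_of_isAffineOpen X (f ⁻¹ᵁ V) hU
  let K := Y.functionField
  let L := X.functionField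
  letI : Algebra K L :=
    ((Y.presheaf.stalkSpecializes (specializes_of_eq e) ≫ f.stalkMap (genericPoint X)).hom).toAlgebra
  haveI := hsep
  letI : Algebra R L := ((algebraMap B L).comp (f.app V).hom).toAlgebra
  haveI : IsScalarTower R B L := .of_algebraMap_eq' rfl
  haveI : IsScalarTower R K L := .of_algebraMap_eq fun z => by
    show X.presheaf.germ (f ⁻¹ᵁ V) (genericPoint X) hmem (f.app V z) =
      f.stalkMap (genericPoint X)
        (Y.presheaf.stalkSpecializes (specializes_of_eq e) (Y.presheaf.germ V (genericPoint Y) hη z))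
    rw [TopCat.Presheaf.germ_stalkSpecializes_apply, Scheme.Hom.germ_stalkMap_apply]
  have hinj : Function.Injective (algebraMap R B) := by
    refine Function.Injective.of_comp (f := algebraMap B L) ?_
    rw [← RingHom.coe_comp, ← IsScalarTower.algebraMap_eq, IsScalarTower.algebraMap_eq R K L]
    exact (algebraMap K L).injective.comp (IsFractionRing.injective R K)
  haveI : Module.IsTorsionFree R B := inferInstance
  haveI : FaithfulSMul R B := (faithfulSMul_iff_algebraMap_injective R B).2 hinj
  letI := FractionRing.liftAlgebra R (FractionRing B)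
  haveI := FractionRing.isScalarTower_liftAlgebra R (FractionRing B)
  haveI hsepF : Algebra.IsSeparable (FractionRing R) (FractionRing B) := by
    refine Algebra.IsSeparable.of_equiv_equiv (FractionRing.algEquiv R K).symm.toRingEquiv
      (FractionRing.algEquiv B L).symm.toRingEquiv ?_
    apply IsLocalization.ringHom_ext (nonZeroDivisors R)
    ext r
    simp only [RingHom.coe_comp, RingHom.coe_coe, AlgEquiv.coe_ringEquiv, Function.comp_apply,
      AlgEquiv.commutes, ← IsScalarTower.algebraMap_apply]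
    rw [IsScalarTower.algebraMap_apply R B L, AlgEquiv.commutes, ← IsScalarTower.algebraMap_apply]
  -- the base field
  letI : Algebra k R := ((Y.presheaf.map (homOfLE (le_top : V ≤ ⊤)).op).hom.comp
    (Coh.toGlobal (Y ↘ Spec (CommRingCat.of k)))).toAlgebra
  letI : Algebra k B := ((algebraMap R B).comp (algebraMap k R)).toAlgebra
  haveI : IsScalarTower k R B := .of_algebraMap_eq' rfl
  have hkB : ∀ (c : k) (x : X) (hx : x ∈ f ⁻¹ᵁ V),
      X.presheaf.germ (f ⁻¹ᵁ V) x hx (algebraMap k B c) = Curv2.stalkMap k X x c := fun c x hx => by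
    show X.presheaf.germ (f ⁻¹ᵁ V) x hx (f.app V (Y.presheaf.map (homOfLE (le_top : V ≤ ⊤)).op
      (Coh.toGlobal (Y ↘ Spec (CommRingCat.of k)) c))) =
      X.presheaf.germ ⊤ x trivial (Coh.toGlobal (X ↘ Spec (CommRingCat.of k)) c)
    rw [← Scheme.Hom.germ_stalkMap_apply f V x hx, TopCat.Presheaf.germ_res_apply, Scheme.Hom.germ_stalkMap_apply]
    congr 1
    rw [← hf]
    rfl
  let p : Ideal R := (hV.primeIdealOf ⟨y, hy⟩).asIdeal
  haveI hpmax : p.IsMaximal := hV.primeIdealOf_isMaximal_of_isClosed ⟨y, hy⟩ hyc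
  letI := Y.presheaf.algebra_section_stalk ⟨y, hy⟩
  haveI : IsLocalization.AtPrime (Y.presheaf.stalk y) p := hV.isLocalization_stalk ⟨y, hy⟩
  have hp0 : p ≠ ⊥ := fun h0' => by
    haveI := hdvrY y hyc
    refine IsDiscreteValuationRing.not_a_field (Y.presheaf.stalk y) ?_
    rw [← IsLocalization.AtPrime.map_eq_maximalIdeal p (Y.presheaf.stalk y), h0', Ideal.map_bot]
  -- primes upstairs and points of the fibre
  let P : ∀ x : X, x ∈ f ⁻¹ᵁ V → Ideal B := fun x hx => (hU.primeIdealOf ⟨x, hx⟩).asIdeal
  have hcomap : ∀ (x : X) (hx : x ∈ f ⁻¹ᵁ V) (r : R), algebraMap R B r ∈ P x hx ↔ f x ∉ Y.basicOpen r := by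
    intro x hx r
    rw [show algebraMap R B r ∈ P x hx ↔ ¬ x ∈ X.basicOpen (f.app V r) from
      ⟨fun h h' => (QCoh.mem_basicOpen_iff_notMem hU hx _).1 h' h,
        fun h => by_contra fun h' => h ((QCoh.mem_basicOpen_iff_notMem hU hx _).2 h')⟩, ← Scheme.preimage_basicOpen]
    rfl
  have hover : ∀ (x : X) (hx : x ∈ f ⁻¹ᵁ V), f x = y → (P x hx).LiesOver p := fun x hx hxy => ⟨Ideal.ext fun r => by
    show r ∈ p ↔ algebraMap R B r ∈ P x hx
    rw [hcomap x hx r, hxy]
    exact ⟨fun h h' => (QCoh.mem_basicOpen_iff_notMem hV hy r).1 h' h,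
      fun h => by_contra fun h' => h ((QCoh.mem_basicOpen_iff_notMem hV hy r).2 h')⟩⟩
  have hclosed : ∀ x : X, f x = y → IsClosed ({x} : Set X) := fun x hxy => by
    by_contra hc
    obtain rfl := CurveCohLib.eq_genericPoint_of_not_isClosed hdX hc
    rw [e] at hxy
    refine hp0 (eq_bot_iff.2 fun r hr => ?_)
    have hu : ¬ IsUnit (Y.presheaf.germ V y hy r) := fun hu => by
      exact (QCoh.mem_basicOpen_iff_notMem hV hy r).1 ((Y.mem_basicOpen r y hy).2 hu) hr
    subst hxy
    letI : Field (Y.presheaf.stalk (genericPoint Y)) := inferInstanceAs (Field Y.functionField)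
    refine (Ideal.mem_bot).2 (IsFractionRing.injective R K ?_)
    rw [map_zero]
    by_contra hne
    exact hu (isUnit_iff_ne_zero.2 hne : IsUnit (algebraMap R K r))
  have hfib : (f ⁻¹' {y}).Finite := CurveCohLib.finite_of_closedPoints (hyc.preimage f.continuous) hclosed
  obtain ⟨φ₀, hgen, hker⟩ := exists_generator_codifferent R B
  have hCc : Coh.IsCoh (cokernel (toDual hA)) :=
    QCoh.isCoh_cokernel (CurveDeg.isCoh_of_isFinLocFree hA).1 (RefX.isCoh_dual (CurveDeg.isCoh_of_isFinLocFree hA))
      (toDual hA)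
  obtain ⟨ψ, hψs, hψk, hψl⟩ := exists_presentation hA hV hy h0 hsupp hfree hfin
  letI := CurveCohLib.stalkModuleK k (cokernel (toDual hA)) y
  have hkY : ∀ c : k, Y.presheaf.germ V y hy (algebraMap k R c) = Curv2.stalkMap k Y y c := fun c =>
    TopCat.Presheaf.germ_res_apply _ _ _ _ _
  let Φ : B →ₗ[k] (cokernel (toDual hA)).presheaf.stalk y :=
    { toFun := fun b => ψ (φ₀ ∘ₗ LinearMap.mulLeft R b)
      map_add' := fun a b => by
        rw [← map_add]
        refine congrArg ψ (LinearMap.ext fun z => ?_)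
        show φ₀ ((a + b) * z) = φ₀ (a * z) + φ₀ (b * z)
        rw [add_mul, map_add]
      map_smul' := fun c b => by
        show ψ _ = Curv2.stalkMap k Y y c • ψ _
        rw [← hkY, ← hψl]
        refine congrArg ψ (LinearMap.ext fun z => ?_)
        show φ₀ (c • b * z) = algebraMap k R c • φ₀ (b * z)
        rw [← map_smul, algebraMap_smul, smul_mul_assoc] }
  have hΦs : Function.Surjective Φ := fun m => by
    obtain ⟨φ, rfl⟩ := hψs m
    obtain ⟨b, a, rfl⟩ := hgen φ
    refine ⟨b, ?_⟩
    show ψ _ = ψ _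
    rw [map_add, (hψk _).2 ⟨a, rfl⟩, add_zero]
  have hΦk : ∀ b, Φ b = 0 ↔ b ∈ differentIdeal R B := fun b => (hψk _).trans (hker b)
  have hkereq : LinearMap.ker Φ = (differentIdeal R B : Submodule B B).restrictScalars k := Submodule.ext hΦk
  let ε : (B ⧸ differentIdeal R B) ≃ₗ[k] (cokernel (toDual hA)).presheaf.stalk y :=
    (Submodule.Quotient.restrictScalarsEquiv k (differentIdeal R B : Submodule B B)).symm.trans
      ((Submodule.quotEquivOfEq _ _ hkereq.symm).trans (Φ.quotKerEquivOfSurjective hΦs))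
  -- residue fields upstairs
  haveI : LocallyOfFiniteType (X ↘ Spec (CommRingCat.of k)) := inferInstance
  have hres : ∀ (x : X) (hx : x ∈ f ⁻¹ᵁ V), IsClosed ({x} : Set X) →
      ∃ τ : (B ⧸ P x hx) ≃ₐ[k] X.residueField x, ∀ b, τ (Ideal.Quotient.mk _ b) = X.residue x (X.presheaf.germ (f ⁻¹ᵁ V) x hx b) := by
    intro x hx hxc
    haveI : (P x hx).IsMaximal := hU.primeIdealOf_isMaximal_of_isClosed ⟨x, hx⟩ hxc
    let g : B →+* X.residueField x := (X.residue x).hom.comp (X.presheaf.germ (f ⁻¹ᵁ V) x hx).hom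
    have hgk : ∀ b ∈ P x hx, g b = 0 := fun b hb => (residue_eq_zero_iff _).2 ((mem_maximalIdeal _).2 fun hu =>
      (QCoh.mem_basicOpen_iff_notMem hU hx b).1 ((X.mem_basicOpen b x hx).2 hu) hb)
    have hgs : Function.Surjective g := fun z => by
      letI := X.presheaf.algebra_section_stalk ⟨x, hx⟩
      haveI : IsLocalization.AtPrime (X.presheaf.stalk x) (P x hx) := hU.isLocalization_stalk ⟨x, hx⟩
      obtain ⟨w, rfl⟩ := residue_surjective z
      obtain ⟨⟨a, s⟩, rfl⟩ := IsLocalization.mk'_surjective (P x hx).primeCompl w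
      letI := Ideal.Quotient.field (P x hx)
      obtain ⟨c, hc⟩ := Ideal.Quotient.mk_surjective ((Ideal.Quotient.mk (P x hx) (s : B))⁻¹)
      have hs : Ideal.Quotient.mk (P x hx) (s : B) ≠ 0 := fun h => s.2 (Ideal.Quotient.eq_zero_iff_mem.1 h)
      refine ⟨a * c, ?_⟩
      have h1 : g ((s : B) * c - 1) = 0 := hgk _ (Ideal.Quotient.eq_zero_iff_mem.1 (by
        rw [map_sub, map_mul, hc, map_one, mul_inv_cancel₀ hs, sub_self]))
      rw [map_sub, map_one, sub_eq_zero, map_mul] at h1
      have h2 := congrArg (residue (X.presheaf.stalk x)) (IsLocalization.mk'_spec (X.presheaf.stalk x) a s)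
      rw [map_mul] at h2
      calc g (a * c) = (X.residue x).hom (IsLocalization.mk' (X.presheaf.stalk x) a s) * (g (s : B) * g c) := by
            rw [map_mul, ← mul_assoc]
            exact congrArg (fun t : X.residueField x => t * g c) h2.symm
        _ = _ := by rw [h1, mul_one]; rfl
    refine ⟨AlgEquiv.ofBijective (AlgHom.mk (Ideal.Quotient.lift (P x hx) g hgk) fun c => ?_)
      ⟨?_, fun z => let ⟨b, hb⟩ := hgs z; ⟨Ideal.Quotient.mk _ b, hb⟩⟩, fun b => rfl⟩
    · show X.residue x (X.presheaf.germ (f ⁻¹ᵁ V) x hx (algebraMap k B c)) = Curv2.resMap k X x c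
      rw [hkB]
      rfl
    · letI := Ideal.Quotient.field (P x hx)
      exact (Ideal.Quotient.lift (P x hx) g hgk).injective
  haveI : Algebra.FiniteType k B := by
    have h1 := LocallyOfFiniteType.finiteType_appLE (X ↘ Spec (CommRingCat.of k))
      (isAffineOpen_top _) hU (show f ⁻¹ᵁ V ≤ (X ↘ Spec (CommRingCat.of k)) ⁻¹ᵁ ⊤ from le_top)
    have h2 := h1.comp (RingHom.FiniteType.of_surjective (Scheme.ΓSpecIso (CommRingCat.of k)).inv.hom
      (Scheme.ΓSpecIso (CommRingCat.of k)).symm.commRingCatIsoToRingEquiv.surjective)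
    refine RingHom.finiteType_algebraMap.1 ?_
    convert h2 using 1
    refine RingHom.ext fun c => ?_
    refine germ_injective_of_isIntegral X (genericPoint X) hmem ?_
    refine (hkB c (genericPoint X) hmem).trans ?_
    exact (X.presheaf.germ_res_apply (homOfLE (le_top : f ⁻¹ᵁ V ≤ ⊤)) (genericPoint X) hmem _).symm
  have hfinP : ∀ Q : Ideal B, Q.IsMaximal → Module.Finite k (B ⧸ Q) := fun Q hQ => by
    letI := Ideal.Quotient.field Q
    exact finite_of_finite_type_of_isJacobsonRing k (B ⧸ Q)
  have hD : differentIdeal R B ≠ ⊥ := differentIdeal_ne_bot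
  obtain ⟨-, hdim⟩ := finrank_quot k hD fun Q hQ _ => hfinP Q hQ
  let N : X → ℕ := fun x => if hx : x ∈ f ⁻¹ᵁ V then ord (P x hx) (differentIdeal R B) else 0
  have hmemV : ∀ x, f x = y → x ∈ f ⁻¹ᵁ V := fun x hx => show f x ∈ V by rw [hx]; exact hy
  refine ⟨hfib.toFinset, N, fun x => by simp, fun x hxF => ?_, ?_⟩
  · have hxy : f x = y := by simpa using hxF
    have hxV := hmemV x hxy
    have hxc := hclosed x hxy
    subst hxy
    haveI : (P x hxV).IsMaximal := hU.primeIdealOf_isMaximal_of_isClosed ⟨x, hxV⟩ hxc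
    haveI := hover x hxV rfl
    have hN : N x = ord (P x hxV) (differentIdeal R B) := dif_pos hxV
    letI := X.presheaf.algebra_section_stalk ⟨x, hxV⟩
    haveI : IsLocalization.AtPrime (X.presheaf.stalk x) (P x hxV) := hU.isLocalization_stalk ⟨x, hxV⟩
    -- the ramification index
    have hram : ramAt f x = ord (P x hxV) (p.map (algebraMap R B)) := by
      haveI := hdvrX x hxc
      haveI := hdvrY (f x) hyc
      letI := (f.stalkMap x).hom.toAlgebra
      haveI : IsLocalHom (algebraMap (Y.presheaf.stalk (f x)) (X.presheaf.stalk x)) :=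
        inferInstanceAs (IsLocalHom (f.stalkMap x).hom)
      haveI : (maximalIdeal (X.presheaf.stalk x)).LiesOver (maximalIdeal (Y.presheaf.stalk (f x))) :=
        ⟨(maximalIdeal_comap (algebraMap (Y.presheaf.stalk (f x)) (X.presheaf.stalk x))).symm⟩
      have hcm : (algebraMap (Y.presheaf.stalk (f x)) (X.presheaf.stalk x)).comp (algebraMap R (Y.presheaf.stalk (f x))) =
          (algebraMap B (X.presheaf.stalk x)).comp (algebraMap R B) :=
        RingHom.ext fun r => Scheme.Hom.germ_stalkMap_apply f V x hxV r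
      obtain ⟨Q, hQ1, hQ2⟩ := eq_ord_of (P x hxV) (p.map (algebraMap R B)) (ne_bot R B (P x hxV) hp0)
        (Ideal.map_ne_bot_of_ne_bot hp0)
      have hQu : Ideal.map (algebraMap B (X.presheaf.stalk x)) Q = ⊤ := by
        have hnot : ¬ Q ≤ P x hxV := fun h => (inferInstance : (P x hxV).IsMaximal).ne_top (by
          rwa [sup_eq_left.2 h] at hQ1)
        obtain ⟨q, hq, hqP⟩ := SetLike.not_le_iff_exists.1 hnot
        exact Ideal.eq_top_of_isUnit_mem _ (Ideal.mem_map_of_mem _ hq) (IsLocalization.map_units (X.presheaf.stalk x) (⟨q, hqP⟩ : (P x hxV).primeCompl))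
      have hmap : (maximalIdeal (Y.presheaf.stalk (f x))).map
          (algebraMap (Y.presheaf.stalk (f x)) (X.presheaf.stalk x)) =
          maximalIdeal (X.presheaf.stalk x) ^ ord (P x hxV) (p.map (algebraMap R B)) := by
        conv_lhs => rw [← IsLocalization.AtPrime.map_eq_maximalIdeal p (Y.presheaf.stalk (f x)), Ideal.map_map, hcm,
          ← Ideal.map_map, hQ2, Ideal.map_mul, hQu, Ideal.mul_top, Ideal.map_pow,
          IsLocalization.AtPrime.map_eq_maximalIdeal (P x hxV) (X.presheaf.stalk x)]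
      have hmY : maximalIdeal (Y.presheaf.stalk (f x)) ≠ ⊥ := IsDiscreteValuationRing.not_a_field _
      have hne : (maximalIdeal (Y.presheaf.stalk (f x))).map
          (algebraMap (Y.presheaf.stalk (f x)) (X.presheaf.stalk x)) ≠ ⊥ := by
        rw [hmap]
        exact pow_ne_zero _ (IsDiscreteValuationRing.not_a_field _)
      show Ideal.ramificationIdx (maximalIdeal (X.presheaf.stalk x)) (Y.presheaf.stalk (f x)) = _
      rw [← Ideal.ramificationIdx'_eq_ramificationIdx' _ _ hne]
      refine Ideal.ramificationIdx'_spec hmap.le fun h => ?_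
      rw [hmap] at h
      exact (Ideal.pow_succ_lt_pow (IsDiscreteValuationRing.not_a_field _) _).not_ge h
    -- residue fields
    obtain ⟨τ, hτ⟩ := hres x hxV hxc
    have htame : IsTameAt f x ↔ (Algebra.IsSeparable (R ⧸ p) (B ⧸ P x hxV) ∧
        ((ord (P x hxV) (p.map (algebraMap R B)) : ℕ) : R ⧸ p) ≠ 0) := by
      letI := (f.residueFieldMap x).hom.toAlgebra
      let g : R →+* Y.residueField (f x) := (Y.residue (f x)).hom.comp (Y.presheaf.germ V (f x) hy).hom
      have hgk : ∀ r ∈ p, g r = 0 := fun r hr => (residue_eq_zero_iff _).2 ((mem_maximalIdeal _).2 fun hu =>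
        (QCoh.mem_basicOpen_iff_notMem hV hy r).1 ((Y.mem_basicOpen r (f x) hy).2 hu) hr)
      let σ₀ : R ⧸ p →+* Y.residueField (f x) := Ideal.Quotient.lift p g hgk
      have hσs : Function.Surjective σ₀ := fun z => by
        obtain ⟨w, rfl⟩ := residue_surjective z
        obtain ⟨⟨a, s⟩, rfl⟩ := IsLocalization.mk'_surjective p.primeCompl w
        letI := Ideal.Quotient.field p
        obtain ⟨c, hc⟩ := Ideal.Quotient.mk_surjective ((Ideal.Quotient.mk p (s : R))⁻¹)
        have hs : Ideal.Quotient.mk p (s : R) ≠ 0 := fun h => s.2 (Ideal.Quotient.eq_zero_iff_mem.1 h)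
        refine ⟨Ideal.Quotient.mk p (a * c), ?_⟩
        have h1 : g ((s : R) * c - 1) = 0 := hgk _ (Ideal.Quotient.eq_zero_iff_mem.1 (by
          rw [map_sub, map_mul, hc, map_one, mul_inv_cancel₀ hs, sub_self]))
        rw [map_sub, map_one, sub_eq_zero, map_mul] at h1
        have h2 := congrArg (residue (Y.presheaf.stalk (f x))) (IsLocalization.mk'_spec (Y.presheaf.stalk (f x)) a s)
        rw [map_mul] at h2
        show g (a * c) = _
        calc g (a * c) = (Y.residue (f x)).hom (IsLocalization.mk' (Y.presheaf.stalk (f x)) a s) * (g (s : R) * g c) := by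
              rw [map_mul, ← mul_assoc]
              exact congrArg (fun t : Y.residueField (f x) => t * g c) h2.symm
          _ = _ := by rw [h1, mul_one]; rfl
      let σ : R ⧸ p ≃+* Y.residueField (f x) :=
        letI := Ideal.Quotient.field p
        RingEquiv.ofBijective σ₀ ⟨σ₀.injective, hσs⟩
      have hsq : (algebraMap (Y.residueField (f x)) (X.residueField x)).comp σ.toRingHom =
          τ.toRingEquiv.toRingHom.comp (algebraMap (R ⧸ p) (B ⧸ P x hxV)) := by
        refine Ideal.Quotient.ringHom_ext (RingHom.ext fun r => ?_)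
        show f.residueFieldMap x (Y.residue (f x) (Y.presheaf.germ V (f x) hy r)) =
          τ (Ideal.Quotient.mk _ (f.app V r))
        rw [hτ, ← Scheme.Hom.germ_stalkMap_apply f V x hxV r]
        exact congr($(Scheme.residue_residueFieldMap f x) (Y.presheaf.germ V (f x) hy r))
      unfold IsTameAt
      rw [hram]
      letI fp := Ideal.Quotient.field p
      refine and_congr ⟨fun h => ?_, fun h => ?_⟩ (not_congr ?_)
      · exact Algebra.IsSeparable.of_equiv_equiv (A₂ := R ⧸ p) (B₂ := B ⧸ P x hxV) σ.symm τ.toRingEquiv.symm (RingHom.ext fun z => by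
          obtain ⟨r, rfl⟩ := σ.surjective z
          apply τ.toRingEquiv.injective
          show τ.toRingEquiv (algebraMap (R ⧸ p) (B ⧸ P x hxV) (σ.symm (σ r))) =
            τ.toRingEquiv (τ.toRingEquiv.symm (algebraMap (Y.residueField (f x)) (X.residueField x) (σ r)))
          rw [RingEquiv.symm_apply_apply, RingEquiv.apply_symm_apply]
          exact (RingHom.congr_fun hsq r).symm)
      · exact Algebra.IsSeparable.of_equiv_equiv (A₁ := R ⧸ p) (B₁ := B ⧸ P x hxV) σ τ.toRingEquiv (RingHom.ext fun z => RingHom.congr_fun hsq z)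
      · rw [← map_natCast σ, map_eq_zero_iff _ σ.injective]
    rw [hN, hram, htame]
    refine ⟨hxc, ord_sub_one_le R B (P x hxV) hp0, ord_eq_iff R B (P x hxV) hp0, ?_⟩
    haveI := hfinP (P x hxV) inferInstance
    rw [← τ.toLinearEquiv.finrank_eq]
    exact Module.finrank_pos
  · rw [← ε.finrank_eq, hdim]
    refine (Finset.sum_bij_ne_zero (fun x hx _ => P x (hmemV x (by simpa using hx))) ?_ ?_ ?_ ?_).symm
    · intro x hx hne
      rw [Multiset.mem_toFinset]
      have h1 : ord (P x (hmemV x (by simpa using hx))) (differentIdeal R B) ≠ 0 := fun h0' =>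
        hne (by rw [show N x = 0 from (dif_pos _).trans h0', zero_mul])
      exact Multiset.count_ne_zero.1 h1
    · intro x hx _ x' hx' _ h
      have h1 : hU.primeIdealOf ⟨x, hmemV x (by simpa using hx)⟩ = hU.primeIdealOf ⟨x', hmemV x' (by simpa using hx')⟩ :=
        PrimeSpectrum.ext h
      have h2 := congrArg hU.fromSpec h1
      rwa [hU.fromSpec_primeIdealOf, hU.fromSpec_primeIdealOf] at h2
    · intro Q hQ hne
      rw [Multiset.mem_toFinset] at hQ
      have hQp := UniqueFactorizationMonoid.prime_of_factor _ hQ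
      haveI : Q.IsPrime := Ideal.isPrime_of_prime hQp
      haveI : Q.IsMaximal := Ideal.IsPrime.isMaximal inferInstance hQp.ne_zero
      obtain ⟨x, hxV, hxQ⟩ := QCoh.exists_point hU ⟨Q, inferInstance⟩
      obtain rfl : P x hxV = Q := congrArg PrimeSpectrum.asIdeal hxQ
      have hxy : f x = y := by
        have hle : (P x hxV).comap (algebraMap R B) ≤ p := fun r hr => by
          by_contra hrp
          have hu : IsUnit (Y.presheaf.germ V y hy r) := IsLocalization.map_units (Y.presheaf.stalk y) (⟨r, hrp⟩ : p.primeCompl)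
          obtain ⟨b, hb⟩ := hΦs (hu.unit⁻¹.val • Φ 1)
          have h1 : Φ (algebraMap R B r * b - 1) = 0 := by
            rw [map_sub, sub_eq_zero]
            show ψ (φ₀ ∘ₗ LinearMap.mulLeft R (algebraMap R B r * b)) = _
            rw [show φ₀ ∘ₗ LinearMap.mulLeft R (algebraMap R B r * b) = r • (φ₀ ∘ₗ LinearMap.mulLeft R b) from
              LinearMap.ext fun z => by
                show φ₀ (algebraMap R B r * b * z) = r • φ₀ (b * z)
                rw [← map_smul, Algebra.smul_def, mul_assoc], hψl]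
            change Y.presheaf.germ V y hy r • Φ b = _
            rw [hb, ← mul_smul, IsUnit.mul_val_inv, one_smul]
          have h2 : algebraMap R B r * b - 1 ∈ P x hxV :=
            Ideal.dvd_iff_le.1 (UniqueFactorizationMonoid.dvd_of_mem_factors hQ) ((hΦk _).1 h1)
          refine (inferInstance : (P x hxV).IsMaximal).ne_top ((Ideal.eq_top_iff_one _).2 ?_)
          have h3 := (P x hxV).sub_mem (Ideal.mul_mem_right b _ hr) h2
          rwa [sub_sub_cancel] at h3
        have hQR : (P x hxV).comap (algebraMap R B) = p := by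
          haveI : ((P x hxV).comap (algebraMap R B)).IsMaximal :=
            Ideal.isMaximal_comap_of_isIntegral_of_isMaximal (R := R) (P x hxV)
          exact Ideal.IsMaximal.eq_of_le inferInstance hpmax.ne_top hle
        have h1 : hV.primeIdealOf ⟨f x, hxV⟩ = hV.primeIdealOf ⟨y, hy⟩ := PrimeSpectrum.ext (Ideal.ext fun r => by
          show r ∈ (hV.primeIdealOf ⟨f x, hxV⟩).asIdeal ↔ r ∈ p
          rw [← hQR, Ideal.mem_comap, hcomap x hxV r]
          exact ⟨fun h h' => (QCoh.mem_basicOpen_iff_notMem hV hxV r).1 h' h,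
            fun h => by_contra fun h' => h ((QCoh.mem_basicOpen_iff_notMem hV hxV r).2 h')⟩)
        have h2 := congrArg hV.fromSpec h1
        rwa [hV.fromSpec_primeIdealOf, hV.fromSpec_primeIdealOf] at h2
      refine ⟨x, by simpa using hxy, ?_, rfl⟩
      obtain ⟨τ, -⟩ := hres x hxV (hclosed x hxy)
      rw [show N x = ord (P x hxV) (differentIdeal R B) from dif_pos hxV, ← τ.toLinearEquiv.finrank_eq]
      exact hne
    · intro x hx _
      have hxy : f x = y := by simpa using hx
      obtain ⟨τ, -⟩ := hres x (hmemV x hxy) (hclosed x hxy)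
      rw [show N x = ord (P x (hmemV x hxy)) (differentIdeal R B) from dif_pos (hmemV x hxy),
        ← τ.toLinearEquiv.finrank_eq]

end Groth.Agent.DiffRH
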