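import Groth.Agent.DiffRH.Local
import Groth.Agent.AmpleVan.Pull
import Groth.Agent.S11584

/-!
# Riemann–Hurwitz inequality for separable maps of normal curves
-/

noncomputable section

set_option autoImplicit false
set_option linter.style.haveILetI false
set_option linter.unusedSectionVars false
set_option backward.isDefEq.respectTransparency false
set_option backward.isDefEq.respectTransparency.types false

universe u

open CategoryTheory CategoryTheory.Limits AlgebraicGeometry TopologicalSpace Opposite IsLocalRing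

attribute [local instance] Curv2.resAlgebra

namespace Groth.Agent.DiffRH

open RefHull Groth.Agent.CurveTraceDeg Groth.Agent.CurveBundle Groth.Agent.CurveSlope

theorem isIso_stalkSpecializes {Y : Scheme.{u}} {a b : Y} (h : a = b) :
    IsIso (Y.presheaf.stalkSpecializes (specializes_of_eq h)) := by
  subst h
  rw [TopCat.Presheaf.stalkSpecializes_refl]
  infer_instance

theorem finrank_functionField_eq {X Y : Scheme.{u}} [IsIntegral X] [IsIntegral Y] (f : X ⟶ Y)
    (e : f (genericPoint X) = genericPoint Y) :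
    letI := ((Y.presheaf.stalkSpecializes (specializes_of_eq e) ≫ f.stalkMap (genericPoint X)).hom).toAlgebra
    Module.finrank Y.functionField X.functionField = f.residueDegree (genericPoint X) := by
  letI := ((Y.presheaf.stalkSpecializes (specializes_of_eq e) ≫ f.stalkMap (genericPoint X)).hom).toAlgebra
  letI := (f.residueFieldMap (genericPoint X)).hom.toAlgebra
  haveI := isIso_stalkSpecializes e
  exact Algebra.finrank_eq_of_equiv_equiv
    ((asIso (Y.presheaf.stalkSpecializes (specializes_of_eq e))).commRingCatIsoToRingEquiv.trans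
      (RingEquiv.ofBijective (residue (Y.presheaf.stalk (f (genericPoint X)))) (S11584.bijective_residue e)))
    (RingEquiv.ofBijective _ (S11584.bijective_residue (Y := X) rfl))
    (RingHom.ext fun z => congr($(Scheme.residue_residueFieldMap f (genericPoint X))
      (Y.presheaf.stalkSpecializes (specializes_of_eq e) z)))

variable (k : Type u) [Field k] {X Y : Scheme.{u}} [X.Over (Spec (CommRingCat.of k))]
  [Y.Over (Spec (CommRingCat.of k))] [IsIntegral X] [IsIntegral Y]
  [IsProper (X ↘ Spec (CommRingCat.of k))] [IsProper (Y ↘ Spec (CommRingCat.of k))]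

include k in
open Classical in
theorem hurwitz (hdX : topologicalKrullDim X = 1) (hdY : topologicalKrullDim Y = 1)
    (hnX : Pi1.IsNormalScheme X) (hnY : Pi1.IsNormalScheme Y)
    {L : Y.Modules} (hL : CohB1.IsAmple L)
    (f : X ⟶ Y) [IsFinite f] (hf : f ≫ (Y ↘ Spec (CommRingCat.of k)) = X ↘ Spec (CommRingCat.of k))
    (e : f (genericPoint X) = genericPoint Y)
    (hsep : letI := ((Y.presheaf.stalkSpecializes (specializes_of_eq e) ≫ f.stalkMap (genericPoint X)).hom).toAlgebra
      Algebra.IsSeparable Y.functionField X.functionField) :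
    (f.residueDegree (genericPoint X) : ℤ) * (-2 * Curv2.euler k Y (Coh.structureModule Y)) +
        (∑ᶠ x : X, if IsClosed ({x} : Set X) then
          (((ramAt f x - 1 : ℕ) : ℤ) * (Module.finrank k (X.residueField x) : ℤ)) else 0) ≤
      -2 * Curv2.euler k X (Coh.structureModule X) ∧
    ((f.residueDegree (genericPoint X) : ℤ) * (-2 * Curv2.euler k Y (Coh.structureModule Y)) +
        (∑ᶠ x : X, if IsClosed ({x} : Set X) then
          (((ramAt f x - 1 : ℕ) : ℤ) * (Module.finrank k (X.residueField x) : ℤ)) else 0) =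
      -2 * Curv2.euler k X (Coh.structureModule X) ↔ ∀ x : X, IsClosed ({x} : Set X) → IsTameAt f x) := by
  haveI := CurveCohLib.isNoetherian_of_proper (k := k) (X := Y)
  haveI := CurveCohLib.isNoetherian_of_proper (k := k) (X := X)
  have hreg := regular_dim_le_one k hdY hnY
  have hpid : ∀ y : Y, IsPrincipalIdealRing (Y.presheaf.stalk y) := fun y => by
    haveI := (hnY y).1
    haveI := (hreg y).1
    exact DimFormula.isPrincipalIdealRing_of_regular_dim_le_one (hreg y).2
  haveI : Flat f := DimFormula.flat_of_regular_dim_le_one hreg f fun η hη => by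
    rw [← hη (genericPoint X) ((genericPoint_spec X).specializes (Set.mem_univ η))]
    exact e
  haveI : LocallyOfFinitePresentation f := inferInstance
  have hA' := CurveBC.isFinLocFreeOfRank_push f
  have hrk := CurveFinMap.rk_push_structure f e
  have hA : FlatMod.IsFinLocFree (push f) := fun y => let ⟨W, hy, he⟩ := hA' y; ⟨W, _, hy, he⟩
  have hAc := CurveDeg.isCoh_of_isFinLocFree hA
  have hDc : Coh.IsCoh (dual (push f)) := RefX.isCoh_dual hAc
  have hχ : Curv2.euler k X (Coh.structureModule X) = Curv2.euler k Y (push f) :=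
    finsum_congr fun i => by
      obtain ⟨ε⟩ := PnCoh.exists_linearEquiv_push k f hf QCoh.isQCoh_structureModule i
      rw [ε.finrank_eq]
  haveI := mono_toDual hA e hsep (CurveGenusMono.finiteDimensional_functionField f e)
  let C := cokernel (toDual hA)
  have hS := CurveSlope.shortExact_cokernel_of_mono (toDual hA)
  have hCc : Coh.IsCoh C := QCoh.isCoh_cokernel hAc.1 hDc (toDual hA)
  have hC0 : rk C = 0 := by
    have h1 := rk_add_coh k _ _ _ hS hDc
    rw [rk_dual k hA] at h1
    show rk (cokernel (toDual hA)) = 0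
    omega
  have h0 : ∀ x ∈ CohB1.support C, IsClosed ({x} : Set Y) := fun x hx => by
    by_contra hc
    obtain rfl := CurveCohLib.eq_genericPoint_of_not_isClosed hdY hc
    refine support_ne_univ_of_rk hCc hC0 (Set.eq_univ_of_forall fun z => ?_)
    exact QCoh.stableUnderSpecialization_support hCc.1 ((genericPoint_spec Y).specializes (Set.mem_univ z)) hx
  have hTfin := CurveCohLib.finite_of_closedPoints (QCoh.isClosed_support_of_isFT hCc.1 hCc.2) h0
  let T := hTfin.toFinset
  obtain ⟨hsum, -⟩ := CurveCohLib.euler_eq_sum_stalks (k := k) hCc h0 T (fun z hz => hTfin.mem_toFinset.2 hz)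
  have hadd := euler_add' k _ _ _ hS hAc hDc hCc
  have hdual := euler_add_dual k hdY hpid (exists_big_line k hdY hL) _ (push f) hA rfl
  rw [hrk] at hdual
  -- the local data at every closed point
  have hloc : ∀ y : Y, IsClosed ({y} : Set Y) → ∃ (F : Finset X) (N : X → ℕ), (∀ x, x ∈ F ↔ f x = y) ∧
      (∀ x ∈ F, IsClosed ({x} : Set X) ∧ ramAt f x - 1 ≤ N x ∧ (N x = ramAt f x - 1 ↔ IsTameAt f x) ∧
        0 < Module.finrank k (X.residueField x)) ∧
      (letI := CurveCohLib.stalkModuleK k C y
       Module.finrank k (C.presheaf.stalk y)) = ∑ x ∈ F, N x * Module.finrank k (X.residueField x) := by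
    intro y hyc
    obtain ⟨U, n, hyU, ⟨eU⟩⟩ := hA y
    have hclT : IsClosed (CohB1.support C \ {y}) := by
      have := Set.Finite.isClosed_biUnion (s := CohB1.support C \ {y}) (f := fun z => ({z} : Set Y))
        (hTfin.subset Set.sdiff_subset) fun z hz => h0 z hz.1
      rwa [Set.biUnion_of_singleton] at this
    obtain ⟨_, ⟨V, hV, rfl⟩, hyV, hle⟩ := Y.isBasis_affineOpens.exists_subset_of_mem_open
      (a := y) (⟨hyU, fun h => h.2 rfl⟩ : y ∈ (U : Set Y) ∩ (CohB1.support C \ {y})ᶜ)
      (U.2.inter hclT.isOpen_compl)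
    replace hV : IsAffineOpen V := hV
    have hVU : V ≤ U := fun z hz => (hle hz).1
    obtain ⟨l⟩ := QCoh.free_sections hV hVU eU
    letI := H23.CoverPush.alg f V
    let e' : Γ(X, f ⁻¹ᵁ V) ≃ₗ[Γ(Y, V)] _ := { l with map_smul' := fun r x => l.map_smul r x }
    exact local_formula k hdX hdY hnX hnY f hf e hsep hA h0 hV hyV hyc
      (fun z hz hzs => by_contra fun hne => (hle hz).2 ⟨hzs, hne⟩)
      (Module.Free.of_equiv e'.symm) (Module.Finite.equiv e'.symm)
  choose! F N hF hN hdim using hloc
  have himg : ∀ x : X, IsClosed ({x} : Set X) → IsClosed ({f x} : Set Y) := fun x hx => by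
    have := f.isClosedMap _ hx
    rwa [Set.image_singleton] at this
  -- outside the branch locus
  have hout : ∀ x : X, IsClosed ({x} : Set X) → f x ∉ T → ramAt f x - 1 = 0 ∧ IsTameAt f x := fun x hx hxT => by
    have hy := himg x hx
    have h1 := hdim (f x) hy
    haveI : Subsingleton (C.presheaf.stalk (f x)) := not_not.1 fun h => hxT (hTfin.mem_toFinset.2 h)
    letI := CurveCohLib.stalkModuleK k C (f x)
    rw [Module.finrank_zero_of_subsingleton] at h1
    have hxF : x ∈ F (f x) := (hF _ hy x).2 rfl
    have h2 := (Finset.sum_eq_zero_iff.1 h1.symm) x hxF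
    obtain ⟨-, hle, hiff, hpos⟩ := hN _ hy x hxF
    have hN0 : N (f x) x = 0 := (mul_eq_zero.1 h2).resolve_right hpos.ne'
    have hr : ramAt f x - 1 = 0 := by omega
    exact ⟨hr, hiff.1 (by omega)⟩
  have hTc : ∀ y ∈ T, IsClosed ({y} : Set Y) := fun y hy => h0 y (hTfin.mem_toFinset.1 hy)
  let S := T.biUnion F
  have hdisj : (T : Set Y).PairwiseDisjoint F := fun a ha b hb hab => Finset.disjoint_left.2 fun x hxa hxb =>
    hab (((hF a (hTc a ha) x).1 hxa).symm.trans ((hF b (hTc b hb) x).1 hxb))
  have hsumS : (∑ᶠ x : X, if IsClosed ({x} : Set X) then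
      (((ramAt f x - 1 : ℕ) : ℤ) * (Module.finrank k (X.residueField x) : ℤ)) else 0) =
      ∑ y ∈ T, ∑ x ∈ F y, (((ramAt f x - 1 : ℕ) : ℤ) * (Module.finrank k (X.residueField x) : ℤ)) := by
    rw [← Finset.sum_biUnion hdisj, finsum_eq_sum_of_support_subset _ (s := S) ?_]
    · refine Finset.sum_congr rfl fun x hx => if_pos ?_
      obtain ⟨y, hy, hxy⟩ := Finset.mem_biUnion.1 hx
      exact (hN y (hTc y hy) x hxy).1
    · intro x hx
      rw [Function.mem_support] at hx
      by_contra hxS
      by_cases hxc : IsClosed ({x} : Set X)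
      · refine hx ?_
        rw [if_pos hxc, (hout x hxc fun hT => hxS (Finset.mem_biUnion.2
          ⟨f x, hT, (hF _ (himg x hxc) x).2 rfl⟩)).1]
        simp
      · exact hx (if_neg hxc)
  have hterm : ∀ y ∈ T, ∑ x ∈ F y, (((ramAt f x - 1 : ℕ) : ℤ) * (Module.finrank k (X.residueField x) : ℤ)) ≤
      (letI := CurveCohLib.stalkModuleK k C y
       (Module.finrank k (C.presheaf.stalk y) : ℤ)) := fun y hy => by
    rw [hdim y (hTc y hy)]
    push_cast
    exact Finset.sum_le_sum fun x hx => mul_le_mul_of_nonneg_right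
      (by exact_mod_cast (hN y (hTc y hy) x hx).2.1) (by positivity)
  have hle := Finset.sum_le_sum hterm
  rw [hχ, hsumS]
  refine ⟨by linarith, ⟨fun h x hxc => ?_, fun h => ?_⟩⟩
  · by_cases hxT : f x ∈ T
    · have heq : ∀ y ∈ T, _ = _ := (Finset.sum_eq_sum_iff_of_le hterm).1 (by linarith)
      have h1 := heq (f x) hxT
      rw [hdim _ (hTc _ hxT)] at h1
      push_cast at h1
      have hxF : x ∈ F (f x) := (hF _ (hTc _ hxT) x).2 rfl
      have h2 := (Finset.sum_eq_sum_iff_of_le (fun z hz => mul_le_mul_of_nonneg_right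
        (by exact_mod_cast (hN (f x) (hTc _ hxT) z hz).2.1) (by positivity))).1 h1 x hxF
      obtain ⟨-, -, hiff, hpos⟩ := hN _ (hTc _ hxT) x hxF
      refine hiff.1 ?_
      have h3 := mul_right_cancel₀ (show (Module.finrank k (X.residueField x) : ℤ) ≠ 0 by exact_mod_cast hpos.ne') h2
      exact_mod_cast h3.symm
    · exact (hout x hxc hxT).2
  · have heq : ∑ y ∈ T, ∑ x ∈ F y, (((ramAt f x - 1 : ℕ) : ℤ) * (Module.finrank k (X.residueField x) : ℤ)) =
        ∑ y ∈ T, (letI := CurveCohLib.stalkModuleK k C y
          (Module.finrank k (C.presheaf.stalk y) : ℤ)) := by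
      refine Finset.sum_congr rfl fun y hy => ?_
      rw [hdim y (hTc y hy)]
      push_cast
      refine Finset.sum_congr rfl fun x hx => ?_
      obtain ⟨hxc, -, hiff, -⟩ := hN y (hTc y hy) x hx
      rw [hiff.2 (h x hxc)]
    linarith

end Groth.Agent.DiffRH
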